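import Cfsg.Agent.ThCert.SimplePerm
import Cfsg.Agent.ThCert.ABound
import Cfsg.Agent.ThompsonRep.Rep

/-!
The group presented by the relators without `u` maps injectively into the presented Thompson
group: the image of `a` in degree 248 is not trivial.
-/

set_option autoImplicit false
set_option maxRecDepth 100000

namespace CfsgLib.ThMult

open CfsgLib.CosetEnum CfsgLib.ThCert Cfsg.Spor

noncomputable section

theorem dig_a : CfsgLib.LyG2.dig (ThRep.tab 0) (120 * 248 + 120) = 2 := by decide +kernel

theorem g_zero_ne : ThCert.g 0 ≠ 1 := by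
  intro h
  have e := congrArg (fun x => (ThRep.rep x).val (120 : Fin 248) (120 : Fin 248)) h
  simp only [map_one, Units.val_one, Matrix.one_apply_eq] at e
  rw [show ThRep.rep (ThCert.g 0) = ThRep.genGL Th.Gen.a from ThRep.rep_of _, ThRep.genGL_val,
    ThRep.mat_eq, ThRep.toT, Matrix.of_apply] at e
  have e' : ((CfsgLib.LyG2.dig (ThRep.tab 0) (120 * 248 + 120) : ℕ) : ZMod 3) = 1 := e
  rw [dig_a] at e'
  exact absurd e' (by decide)

/-- The map of `P` is injective. -/
theorem emb_inj : Function.Injective emb := by
  rw [← MonoidHom.ker_eq_bot_iff]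
  by_contra h
  have e : pg 0 ∈ emb.ker := gens_mem_of_normal P_bound emb.ker h 0 (by norm_num)
  rw [MonoidHom.mem_ker, emb_pg (by norm_num)] at e
  exact g_zero_ne e

end

end CfsgLib.ThMult
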