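import Cfsg.Agent.ThMult.TwoSteps
import Cfsg.Agent.ThMult.FourSteps
import Cfsg.Agent.ThMult.SixSteps
import Cfsg.Agent.ThMult.SixJSteps
import Cfsg.Agent.ThCert.Sep
import Mathlib.GroupTheory.Subgroup.Center

/-!
What the logs say about the defects of the relators with `u`, for a valuation of the letters
satisfying the relators without `u`.
-/

set_option autoImplicit false
set_option maxRecDepth 100000

namespace CfsgLib.ThMult

open CfsgLib.CosetEnum CfsgLib.ThCert Cfsg.Spor
open Subgroup (center)

noncomputable section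

variable {Γ : Type} [Group Γ]

/-- The value of the `k`-th relator with `u`. -/
def dl (f : Th.Gen → Γ) (k : ℕ) : Γ := prodw (val f) (relU.getD k [])

/-- The inverse word. -/
def winv (w : List ℕ) : List ℕ := (w.map ThCert.iv).reverse

/-- The translation of a letter. -/
def mp (t : List ℕ) (x : ℕ) : ℕ := t.getD x 20

/-- The values of the letters of a log: letters of the generators, then scalars. -/
def ext (f : Th.Gen → Γ) (z h : Γ) : ℕ → Γ
  | 11 => z
  | 12 => z⁻¹
  | 13 => h
  | 14 => h⁻¹
  | x => if x < 11 then val f x else 1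

theorem ext_lt (f : Th.Gen → Γ) (z h : Γ) {x : ℕ} (hx : x < 11) : ext f z h x = val f x := by
  interval_cases x <;> rfl

theorem ext_out (f : Th.Gen → Γ) (z h : Γ) {x : ℕ} (hx : 15 ≤ x) : ext f z h x = 1 := by
  have : ∀ k, ext f z h (k + 15) = 1 := fun k => by simp [ext]
  simpa [Nat.sub_add_cancel hx] using this (x - 15)

theorem ext_central (f : Th.Gen → Γ) {z h : Γ} (hz : z ∈ center Γ) (hh : h ∈ center Γ)
    {x : ℕ} (hx : 11 ≤ x) : ext f z h x ∈ center Γ := by
  rcases Nat.lt_or_ge x 15 with h15 | h15
  · interval_cases x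
    exacts [hz, inv_mem hz, hh, inv_mem hh]
  · rw [ext_out f z h h15]; exact one_mem _

theorem prodw_winv (f : Th.Gen → Γ) (hf : Invol f) (w : List ℕ) (hw : ∀ x ∈ w, x < 11) :
    prodw (val f) (winv w) = (prodw (val f) w)⁻¹ := by
  obtain ⟨ha, hb, hc, hd, he⟩ := hf
  have hiv : ∀ x < 11, val f (ThCert.iv x) = (val f x)⁻¹ := by
    intro x hx
    interval_cases x <;> simp [ThCert.iv, val, inv_eq_of_mul_eq_one_right ha,
      inv_eq_of_mul_eq_one_right hb, inv_eq_of_mul_eq_one_right hc, inv_eq_of_mul_eq_one_right hd,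
      inv_eq_of_mul_eq_one_right he]
  induction w with
  | nil => simp [winv, prodw]
  | cons x w ih =>
    rw [winv, List.map_cons, List.reverse_cons, prodw_append, ← winv,
      ih fun y hy => hw y (List.mem_cons_of_mem x hy), prodw_cons, prodw_cons, prodw_nil, mul_one,
      mul_inv_rev, hiv x (hw x List.mem_cons_self)]

/-- A central letter may be read first. -/
theorem prodw_ins {g : ℕ → Γ} {k : ℕ} (hk : g k ∈ center Γ) (u v : List ℕ) :
    prodw g (u ++ k :: v) = g k * prodw g (u ++ v) := by
  rw [prodw_append, prodw_cons, prodw_append, ← mul_assoc, ← mul_assoc,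
    Subgroup.mem_center_iff.mp hk (prodw g u)]

/-- A word in the alphabet of a log that is trivial. -/
def okW (t : List ℕ) (iv : ℕ → ℕ) (ex : List (List ℕ)) (w : List ℕ) : Bool :=
  (w.all (fun x => Nat.blt (mp t x) 9) && same (w.map (mp t)) []) ||
  (match w with
    | [p, q] => Nat.beq p (iv q)
    | [p, q, r, s] => Nat.ble 11 (mp t r) && Nat.beq p (iv r) && Nat.beq q (iv s)
    | _ => false) ||
  ex.contains w

variable {f : Th.Gen → Γ} {φ : P →* Γ} {t : List ℕ} {iv : ℕ → ℕ} {z h : Γ}

theorem okW_sound (hB : ABound) (hφ : ∀ i < 9, φ (pg i) = val f i) (hz : z ∈ center Γ)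
    (hh : h ∈ center Γ) (hiv : ∀ x, ext f z h (mp t (iv x)) = (ext f z h (mp t x))⁻¹)
    {ex : List (List ℕ)} (hex : ∀ w ∈ ex, prodw (fun x => ext f z h (mp t x)) w = 1) {w : List ℕ}
    (hw : okW t iv ex w = true) : prodw (fun x => ext f z h (mp t x)) w = 1 := by
  simp only [okW, Bool.or_eq_true] at hw
  rcases hw with (hw | hw) | hw
  · simp only [Bool.and_eq_true, List.all_eq_true, Nat.blt_eq] at hw
    have hlt : ∀ x ∈ w.map (mp t), x < 9 := by
      intro x hx
      obtain ⟨y, hy, rfl⟩ := List.mem_map.mp hx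
      exact hw.1 y hy
    have e := congrArg φ (eq_of_same_of hB hlt (by simp) hw.2)
    rw [prodw_nil, map_one, map_prodw] at e
    rw [← e]
    simp only [prodw, List.map_map]
    congr 1
    refine List.map_congr_left fun x hx => ?_
    rw [Function.comp_apply, hφ _ (hw.1 x hx), ext_lt f z h (by have := hw.1 x hx; omega)]
  · split at hw
    · rename_i p q
      rw [Nat.eq_of_beq_eq_true hw]
      simp [prodw, hiv]
    · rename_i p q r s
      simp only [Bool.and_eq_true] at hw
      obtain ⟨⟨hr, hp⟩, hq⟩ := hw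
      rw [Nat.eq_of_beq_eq_true hp, Nat.eq_of_beq_eq_true hq]
      have c := Subgroup.mem_center_iff.mp
        (ext_central f hz hh (Nat.le_of_ble_eq_true hr)) (ext f z h (mp t s))
      simp only [prodw, List.map_cons, List.map_nil, List.prod_cons, List.prod_nil, mul_one, hiv]
      rw [← c, inv_mul_cancel_left, inv_mul_cancel]
    · exact absurd hw Bool.false_ne_true
  · exact hex w (by simpa using hw)

/-- The hypotheses of a log. -/
theorem log_hyps (hB : ABound) (hφ : ∀ i < 9, φ (pg i) = val f i) (hz : z ∈ center Γ)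
    (hh : h ∈ center Γ) (hiv : ∀ x, ext f z h (mp t (iv x)) = (ext f z h (mp t x))⁻¹)
    {ex : List (List ℕ)} (hex : ∀ w ∈ ex, prodw (fun x => ext f z h (mp t x)) w = 1)
    {wd : ℕ → List ℕ} {nR nW : ℕ} (hle : nR ≤ nW)
    (hck : ((List.range nW).all fun r => bif Nat.blt r nR then okW t iv ex (wd r) else
      okW t iv ex (wd r) || (wd r).all fun x => Nat.blt (mp t x) 9) = true) :
    (∀ r, r < nR → prodw (fun x => ext f z h (mp t x)) (wd r) = 1) ∧
      ∀ r, r < nW → prodw (fun x => ext f z h (mp t x)) (wd r) ∈ φ.range := by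
  simp only [List.all_eq_true, List.mem_range] at hck
  refine ⟨fun r hr => ?_, fun r hr => ?_⟩
  · have e := hck r (hr.trans_le hle)
    rw [show Nat.blt r nR = true from Nat.ble_eq_true_of_le hr, cond_true] at e
    exact okW_sound hB hφ hz hh hiv hex e
  · have e := hck r hr
    have key : okW t iv ex (wd r) = true ∨ ∀ x ∈ wd r, mp t x < 9 := by
      cases hc : Nat.blt r nR
      · rw [hc, cond_false, Bool.or_eq_true] at e
        simpa [List.all_eq_true] using e
      · rw [hc, cond_true] at e
        exact Or.inl e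
    rcases key with e | e
    · rw [okW_sound hB hφ hz hh hiv hex e]; exact one_mem _
    · refine list_prod_mem fun y hy => ?_
      obtain ⟨x, hx, rfl⟩ := List.mem_map.mp hy
      exact ⟨pg (mp t x), by rw [hφ _ (e x hx), ext_lt f z h (by have := e x hx; omega)]⟩

theorem map_word (w : List ℕ) :
    prodw (fun x => ext f z h (mp t x)) w = prodw (ext f z h) (w.map (mp t)) := by
  simp only [prodw, List.map_map]; rfl

/-- A word spelling a word in the generators. -/
theorem plain {w r : List ℕ} (e : (w.map (mp t) == r && r.all fun x => Nat.blt x 11) = true) :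
    prodw (fun x => ext f z h (mp t x)) w = prodw (val f) r := by
  simp only [Bool.and_eq_true, beq_iff_eq, List.all_eq_true, Nat.blt_eq] at e
  rw [map_word, e.1]
  exact prodw_congr fun x hx => ext_lt f z h (e.2 x hx)

/-- A word spelling a word in the generators with a scalar inserted. -/
theorem mid (hz : z ∈ center Γ) (hh : h ∈ center Γ) {w r : List ℕ} (p c : ℕ)
    (e : (w.map (mp t) == r.take p ++ c :: r.drop p && Nat.ble 11 c &&
      r.all fun x => Nat.blt x 11) = true) :
    prodw (fun x => ext f z h (mp t x)) w = ext f z h c * prodw (val f) r := by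
  simp only [Bool.and_eq_true, beq_iff_eq, List.all_eq_true, Nat.blt_eq] at e
  obtain ⟨⟨e1, e2⟩, e3⟩ := e
  rw [map_word, e1, prodw_ins (ext_central f hz hh (Nat.le_of_ble_eq_true e2)), List.take_append_drop]
  congr 1
  exact prodw_congr fun x hx => ext_lt f z h (e3 x hx)

theorem relU_lt (k : ℕ) : ∀ x ∈ relU.getD k [], x < 11 := by
  have e : ∀ w ∈ relU, ∀ x ∈ w, x < 11 := by decide +kernel
  by_cases hk : k < relU.length
  · rw [List.getD_eq_getElem _ _ hk]; exact e _ (List.getElem_mem hk)
  · rw [List.getD_eq_default _ _ (Nat.le_of_not_lt hk)]; simp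

theorem dl_winv (hf : Invol f) (k : ℕ) :
    prodw (val f) (winv (relU.getD k [])) = (dl f k)⁻¹ := prodw_winv f hf _ (relU_lt k)

section Uses

variable (hB : ABound) (hf : Invol f) (hφ : ∀ i < 9, φ (pg i) = val f i)
  (h1 : dl f 1 = 1) (h2 : dl f 2 = 1) (h3 : dl f 3 = 1)
include hB hf hφ h1 h2 h3

theorem inv_val {x : ℕ} (hx : x < 11) : val f (ThCert.iv x) = (val f x)⁻¹ := by
  have e := prodw_winv f hf [x] (by simpa using hx)
  simpa [winv, prodw] using e

/-- The defect of `u² = ac` is in the image of `P` when its square is trivial. -/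
theorem two_mem (h4 : dl f 4 = 1) (h5 : dl f 5 = 1) (h7 : dl f 7 = 1) (h8 : dl f 8 = 1)
    (h9 : dl f 9 = 1) (hz : dl f 0 ∈ center Γ) (hh : dl f 11 ∈ center Γ)
    (sz : dl f 0 * dl f 0 = 1) (sh : dl f 11 * dl f 11 = 1) : dl f 0 ∈ φ.range := by
  let t := [0, 1, 2, 3, 4, 5, 6, 7, 8, 9, 10, 11, 13]
  have hiv : ∀ x, ext f (dl f 0) (dl f 11) (mp t (Two.iv x)) =
      (ext f (dl f 0) (dl f 11) (mp t x))⁻¹ := by
    intro x
    rcases Nat.lt_or_ge x 13 with hx | hx
    · have i := fun y (hy : y < 11) => inv_val hB hf hφ h1 h2 h3 hy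
      interval_cases x
      case «11» => exact eq_inv_of_mul_eq_one_left sz
      case «12» => exact eq_inv_of_mul_eq_one_left sh
      all_goals first | exact i 0 (by norm_num) | exact i 1 (by norm_num) | exact i 2 (by norm_num) | exact i 3 (by norm_num) | exact i 4 (by norm_num) | exact i 5 (by norm_num) | exact i 6 (by norm_num) | exact i 7 (by norm_num) | exact i 8 (by norm_num) | exact i 9 (by norm_num) | exact i 10 (by norm_num)
    · have e : Two.iv x = x := by
        rw [Two.iv, show Nat.blt x 13 = false by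
          cases hc : Nat.blt x 13
          · rfl
          · exact absurd (Nat.le_of_ble_eq_true hc) (by omega)]
        rfl
      have e' : mp t x = 20 := List.getD_eq_default _ _ (by simpa [t] using hx)
      rw [e, e', ext_out f _ _ (by norm_num), inv_one]
  have hex : ∀ w ∈ [Two.wd 18, Two.wd 19, Two.wd 20, Two.wd 21, Two.wd 22, Two.wd 23, Two.wd 24,
      Two.wd 25, Two.wd 26, Two.wd 27],
      prodw (fun x => ext f (dl f 0) (dl f 11) (mp t x)) w = 1 := by
    intro w hw
    simp only [List.mem_cons, List.not_mem_nil, or_false] at hw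
    rcases hw with rfl | rfl | rfl | rfl | rfl | rfl | rfl | rfl | rfl | rfl
    · rw [mid hz hh (r := relU.getD 0 []) 2 11 (by decide +kernel)]; exact sz
    · rw [plain (r := relU.getD 1 []) (by decide +kernel)]; exact h1
    · rw [plain (r := relU.getD 2 []) (by decide +kernel)]; exact h2
    · rw [plain (r := relU.getD 3 []) (by decide +kernel)]; exact h3
    · rw [plain (r := relU.getD 5 []) (by decide +kernel)]; exact h5
    · rw [plain (r := relU.getD 4 []) (by decide +kernel)]; exact h4
    · rw [plain (r := relU.getD 7 []) (by decide +kernel)]; exact h7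
    · rw [plain (r := relU.getD 8 []) (by decide +kernel)]; exact h8
    · rw [plain (r := winv (relU.getD 9 [])) (by decide +kernel), dl_winv hf, h9, inv_one]
    · rw [mid hz hh (r := relU.getD 11 []) 24 13 (by decide +kernel)]; exact sh
  obtain ⟨hr, hs⟩ := log_hyps hB hφ hz hh hiv hex (nR := 55) (nW := 61) (wd := Two.wd)
    (by norm_num) (by decide +kernel)
  exact Two.mem (g := fun x => ext f (dl f 0) (dl f 11) (mp t x)) hiv rfl hr hs

/-- The defects of the last relators of group 4 are in the image of `P`. -/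
theorem four_mem (h0 : dl f 0 = 1) (h5 : dl f 5 = 1) (hz : dl f 6 ∈ center Γ)
    (hh : dl f 4 ∈ center Γ) : dl f 6 ∈ φ.range ∧ dl f 4 ∈ φ.range := by
  let t := [0, 1, 2, 3, 4, 9, 10, 11, 12, 13, 14]
  have hiv : ∀ x, ext f (dl f 6) (dl f 4) (mp t (Four.iv x)) =
      (ext f (dl f 6) (dl f 4) (mp t x))⁻¹ := by
    intro x
    rcases Nat.lt_or_ge x 11 with hx | hx
    · have i := fun y (hy : y < 11) => inv_val hB hf hφ h1 h2 h3 hy
      interval_cases x
      case «7» => rfl
      case «8» => exact (inv_inv _).symm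
      case «9» => rfl
      case «10» => exact (inv_inv _).symm
      all_goals first | exact i 0 (by norm_num) | exact i 1 (by norm_num) | exact i 2 (by norm_num) | exact i 3 (by norm_num) | exact i 4 (by norm_num) | exact i 5 (by norm_num) | exact i 6 (by norm_num) | exact i 7 (by norm_num) | exact i 8 (by norm_num) | exact i 9 (by norm_num) | exact i 10 (by norm_num)
    · have e : Four.iv x = x := by
        rw [Four.iv, show Nat.blt x 11 = false by
          cases hc : Nat.blt x 11
          · rfl
          · exact absurd (Nat.le_of_ble_eq_true hc) (by omega)]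
        rfl
      have e' : mp t x = 20 := List.getD_eq_default _ _ (by simpa [t] using hx)
      rw [e, e', ext_out f _ _ (by norm_num), inv_one]
  have hex : ∀ w ∈ [Four.wd 6, Four.wd 7, Four.wd 8, Four.wd 9, Four.wd 14, Four.wd 15, Four.wd 16],
      prodw (fun x => ext f (dl f 6) (dl f 4) (mp t x)) w = 1 := by
    intro w hw
    simp only [List.mem_cons, List.not_mem_nil, or_false] at hw
    rcases hw with rfl | rfl | rfl | rfl | rfl | rfl | rfl
    · rw [plain (r := relU.getD 0 []) (by decide +kernel)]; exact h0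
    · rw [plain (r := relU.getD 1 []) (by decide +kernel)]; exact h1
    · rw [plain (r := relU.getD 2 []) (by decide +kernel)]; exact h2
    · rw [plain (r := relU.getD 3 []) (by decide +kernel)]; exact h3
    · rw [plain (r := relU.getD 5 []) (by decide +kernel)]; exact h5
    · rw [mid hz hh (r := relU.getD 6 []) 14 12 (by decide +kernel)]; exact inv_mul_cancel _
    · rw [mid hz hh (r := relU.getD 4 []) 10 14 (by decide +kernel)]; exact inv_mul_cancel _
  obtain ⟨hr, hs⟩ := log_hyps hB hφ hz hh hiv hex (nR := 42) (nW := 47) (wd := Four.wd)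
    (by norm_num) (by decide +kernel)
  have e := Four.mem (g := fun x => ext f (dl f 6) (dl f 4) (mp t x)) hiv rfl hr hs
  exact ⟨inv_mem_iff.mp e.1, inv_mem_iff.mp e.2⟩

variable (h0 : dl f 0 = 1) (h4 : dl f 4 = 1) (h7 : dl f 7 = 1) (h8 : dl f 8 = 1)
include h0 h4 h7 h8

/-- The square of the defect of `(us)^3 = ac` is in the image of `P`. -/
theorem sixJ_mem (hz : dl f 9 ∈ center Γ) (hh : dl f 11 ∈ center Γ) :
    dl f 9 * dl f 9 ∈ φ.range := by
  let t := [0, 2, 3, 4, 5, 6, 7, 8, 9, 10, 11, 12, 13, 14]
  have hiv : ∀ x, ext f (dl f 9)⁻¹ (dl f 11) (mp t (SixJ.iv x)) =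
      (ext f (dl f 9)⁻¹ (dl f 11) (mp t x))⁻¹ := by
    intro x
    rcases Nat.lt_or_ge x 14 with hx | hx
    · have i := fun y (hy : y < 11) => inv_val hB hf hφ h1 h2 h3 hy
      interval_cases x
      case «10» => rfl
      case «11» => exact (inv_inv _).symm
      case «12» => rfl
      case «13» => exact (inv_inv _).symm
      all_goals first | exact i 0 (by norm_num) | exact i 1 (by norm_num) | exact i 2 (by norm_num) | exact i 3 (by norm_num) | exact i 4 (by norm_num) | exact i 5 (by norm_num) | exact i 6 (by norm_num) | exact i 7 (by norm_num) | exact i 8 (by norm_num) | exact i 9 (by norm_num) | exact i 10 (by norm_num)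
    · have e : SixJ.iv x = x := by
        rw [SixJ.iv, show Nat.blt x 14 = false by
          cases hc : Nat.blt x 14
          · rfl
          · exact absurd (Nat.le_of_ble_eq_true hc) (by omega)]
        rfl
      have e' : mp t x = 20 := List.getD_eq_default _ _ (by simpa [t] using hx)
      rw [e, e', ext_out f _ _ (by norm_num), inv_one]
  have hz' : (dl f 9)⁻¹ ∈ center Γ := inv_mem hz
  have hex : ∀ w ∈ [SixJ.wd 6, SixJ.wd 7, SixJ.wd 8, SixJ.wd 9, SixJ.wd 21, SixJ.wd 22, SixJ.wd 23,
      SixJ.wd 24, SixJ.wd 25],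
      prodw (fun x => ext f (dl f 9)⁻¹ (dl f 11) (mp t x)) w = 1 := by
    intro w hw
    simp only [List.mem_cons, List.not_mem_nil, or_false] at hw
    rcases hw with rfl | rfl | rfl | rfl | rfl | rfl | rfl | rfl | rfl
    · rw [plain (r := relU.getD 0 []) (by decide +kernel)]; exact h0
    · rw [plain (r := relU.getD 1 []) (by decide +kernel)]; exact h1
    · rw [plain (r := relU.getD 2 []) (by decide +kernel)]; exact h2
    · rw [plain (r := relU.getD 3 []) (by decide +kernel)]; exact h3
    · rw [plain (r := relU.getD 7 []) (by decide +kernel)]; exact h7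
    · rw [plain (r := relU.getD 8 []) (by decide +kernel)]; exact h8
    · rw [mid hz' hh (r := winv (relU.getD 9 [])) 6 12 (by decide +kernel), dl_winv hf]
      show (dl f 9)⁻¹⁻¹ * _ = 1
      rw [inv_inv, mul_inv_cancel]
    · rw [plain (r := relU.getD 4 []) (by decide +kernel)]; exact h4
    · rw [mid hz' hh (r := relU.getD 11 []) 45 14 (by decide +kernel)]; exact inv_mul_cancel _
  obtain ⟨hr, hs⟩ := log_hyps hB hφ hz' hh hiv hex (nR := 56) (nW := 62) (wd := SixJ.wd)
    (by norm_num) (by decide +kernel)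
  have e := SixJ.mem (g := fun x => ext f (dl f 9)⁻¹ (dl f 11) (mp t x)) hiv rfl hr hs
  have e' : (dl f 9)⁻¹⁻¹ * (dl f 9)⁻¹⁻¹ ∈ φ.range := e
  rwa [inv_inv] at e'

/-- The defects of the last two relators are in the image of `P`. -/
theorem six_mem (h9 : dl f 9 = 1) (hz : dl f 10 ∈ center Γ) (hh : dl f 11 ∈ center Γ) :
    dl f 10 ∈ φ.range ∧ dl f 11 ∈ φ.range := by
  let t := [0, 2, 3, 4, 5, 6, 7, 8, 9, 10, 11, 12, 13, 14]
  have hiv : ∀ x, ext f (dl f 10)⁻¹ (dl f 11) (mp t (Six.iv x)) =
      (ext f (dl f 10)⁻¹ (dl f 11) (mp t x))⁻¹ := by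
    intro x
    rcases Nat.lt_or_ge x 14 with hx | hx
    · have i := fun y (hy : y < 11) => inv_val hB hf hφ h1 h2 h3 hy
      interval_cases x
      case «10» => rfl
      case «11» => exact (inv_inv _).symm
      case «12» => rfl
      case «13» => exact (inv_inv _).symm
      all_goals first | exact i 0 (by norm_num) | exact i 1 (by norm_num) | exact i 2 (by norm_num) | exact i 3 (by norm_num) | exact i 4 (by norm_num) | exact i 5 (by norm_num) | exact i 6 (by norm_num) | exact i 7 (by norm_num) | exact i 8 (by norm_num) | exact i 9 (by norm_num) | exact i 10 (by norm_num)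
    · have e : Six.iv x = x := by
        rw [Six.iv, show Nat.blt x 14 = false by
          cases hc : Nat.blt x 14
          · rfl
          · exact absurd (Nat.le_of_ble_eq_true hc) (by omega)]
        rfl
      have e' : mp t x = 20 := List.getD_eq_default _ _ (by simpa [t] using hx)
      rw [e, e', ext_out f _ _ (by norm_num), inv_one]
  have hz' : (dl f 10)⁻¹ ∈ center Γ := inv_mem hz
  have hex : ∀ w ∈ [Six.wd 6, Six.wd 7, Six.wd 8, Six.wd 9, Six.wd 21, Six.wd 22, Six.wd 23,
      Six.wd 24, Six.wd 25, Six.wd 26],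
      prodw (fun x => ext f (dl f 10)⁻¹ (dl f 11) (mp t x)) w = 1 := by
    intro w hw
    simp only [List.mem_cons, List.not_mem_nil, or_false] at hw
    rcases hw with rfl | rfl | rfl | rfl | rfl | rfl | rfl | rfl | rfl | rfl
    · rw [plain (r := relU.getD 0 []) (by decide +kernel)]; exact h0
    · rw [plain (r := relU.getD 1 []) (by decide +kernel)]; exact h1
    · rw [plain (r := relU.getD 2 []) (by decide +kernel)]; exact h2
    · rw [plain (r := relU.getD 3 []) (by decide +kernel)]; exact h3
    · rw [plain (r := relU.getD 7 []) (by decide +kernel)]; exact h7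
    · rw [plain (r := relU.getD 8 []) (by decide +kernel)]; exact h8
    · rw [plain (r := winv (relU.getD 9 [])) (by decide +kernel), dl_winv hf, h9, inv_one]
    · rw [plain (r := relU.getD 4 []) (by decide +kernel)]; exact h4
    · rw [mid hz' hh (r := winv (relU.getD 10 [])) 16 12 (by decide +kernel), dl_winv hf]
      show (dl f 10)⁻¹⁻¹ * _ = 1
      rw [inv_inv, mul_inv_cancel]
    · rw [mid hz' hh (r := relU.getD 11 []) 45 14 (by decide +kernel)]; exact inv_mul_cancel _
  obtain ⟨hr, hs⟩ := log_hyps hB hφ hz' hh hiv hex (nR := 56) (nW := 62) (wd := Six.wd)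
    (by norm_num) (by decide +kernel)
  have e := Six.mem (g := fun x => ext f (dl f 10)⁻¹ (dl f 11) (mp t x)) hiv rfl hr hs
  have e' : (dl f 10)⁻¹⁻¹ ∈ φ.range ∧ (dl f 11)⁻¹ ∈ φ.range := e
  exact ⟨by simpa using e'.1, inv_mem_iff.mp e'.2⟩

end Uses

end

end CfsgLib.ThMult
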