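import Cfsg.Agent.ThMult.Base
import Cfsg.Agent.ThMult.Logs
import Cfsg.Agent.ThCert.Gens
import Cfsg.Agent.Schur.Basic
import Cfsg.Prelude.Def_KGroupFacts

/-!
Every stem extension of the Thompson group with kernel of prime exponent is trivial, given that the
map of `P` is injective.
-/

set_option autoImplicit false
set_option maxRecDepth 100000

namespace CfsgLib.ThMult

open CfsgLib.CosetEnum CfsgLib.ThCert Cfsg.Spor
open Subgroup (center)
open scoped commutatorElement

noncomputable section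

variable {Γ : Type} [Group Γ] {σ : Γ →* Cfsg.Spor.Th} (hker : σ.ker ≤ center Γ) (B : Base σ)

/-- The lifts completed by a lift of `u`. -/
def mk (U : Γ) : Th.Gen → Γ
  | .a => B.val .a
  | .b => B.val .b
  | .c => B.val .c
  | .d => B.val .d
  | .e => B.val .e
  | .s => B.val .s
  | .t => B.val .t
  | .u => U

theorem val_mk (U : Γ) {i : ℕ} (hi : i < 9) : val (mk B U) i = val (ext1 B.val) i := by
  interval_cases i <;> rfl

/-- The map of `P`. -/
def phi : ThCert.P →* Γ := (exists_lift B.val B.rel).choose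

theorem phi_pg (U : Γ) : ∀ i < 9, phi B (pg i) = val (mk B U) i := fun i hi => by
  rw [val_mk B U hi]; exact (exists_lift B.val B.rel).choose_spec i

theorem bid (u v : List ℕ) (h : ((u.all fun x => Nat.blt x 9) && (v.all fun x => Nat.blt x 9) &&
    same u v) = true) : prodw (val (ext1 B.val)) u = prodw (val (ext1 B.val)) v := by
  simp only [Bool.and_eq_true, List.all_eq_true, Nat.blt_eq] at h
  have e := congrArg (phi B) (eq_of_same_of P_bound h.1.1 h.1.2 h.2)
  simp only [map_prodw] at e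
  have hc : ∀ w, prodw (fun i => phi B (pg i)) w = prodw (val (ext1 B.val)) w := fun w =>
    prodw_congr fun i _ => (exists_lift B.val B.rel).choose_spec i
  rwa [hc, hc] at e

theorem invol_mk (U : Γ) : Invol (mk B U) := by
  have e : ∀ i < 5, val (ext1 B.val) i * val (ext1 B.val) i = 1 := fun i hi => by
    simpa [prodw] using B.rel _ (relA_sq i hi)
  exact ⟨e 0 (by norm_num), e 1 (by norm_num), e 2 (by norm_num), e 3 (by norm_num),
    e 4 (by norm_num)⟩

variable {U : Γ} (hU : σ U = g 9)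
include hU

theorem lift_mk {i : ℕ} (hi : i < 11) : σ (val (mk B U) i) = g i := by
  rcases Nat.lt_or_ge i 9 with h | h
  · rw [val_mk B U h]; exact B.lift i h
  · interval_cases i
    · exact hU
    · exact (map_inv σ U).trans (by rw [hU]; rfl)

theorem dl_ker (k : ℕ) : dl (mk B U) k ∈ σ.ker := by
  rw [MonoidHom.mem_ker, dl, map_prodw, prodw_congr fun i hi => lift_mk B hU (relU_lt k i hi)]
  by_cases hk : k < relU.length
  · rw [List.getD_eq_getElem _ _ hk]
    exact g_rel _ (List.mem_append_right _ (List.getElem_mem hk))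
  · rw [List.getD_eq_default _ _ (Nat.le_of_not_lt hk), prodw_nil]

include hker

theorem dl_center (k : ℕ) : dl (mk B U) k ∈ center Γ := hker (dl_ker B hU k)

/-- The relators with `u` that hold exactly whatever the lift of `u`, and the defect of order
three. -/
theorem u_facts : dl (mk B U) 1 = 1 ∧ dl (mk B U) 2 = 1 ∧ dl (mk B U) 3 = 1 ∧
    dl (mk B U) 5 = 1 ∧ dl (mk B U) 7 = 1 ∧ dl (mk B U) 8 = 1 ∧ dl (mk B U) 4 ^ 3 = 1 := by
  have hz := dl_center hker B hU
  have htu := B.tu U hU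
  have b := bid B
  have h00 := b [0, 0] [] (by decide +kernel)
  have h11 := b [1, 1] [] (by decide +kernel)
  have h22 := b [2, 2] [] (by decide +kernel)
  have h33 := b [3, 3] [] (by decide +kernel)
  have h44 := b [4, 4] [] (by decide +kernel)
  have h55 := b [5, 5, 5, 5, 5, 5, 5] [] (by decide +kernel)
  have hes := b [4, 6, 4, 5] [6, 6, 6, 4, 5, 5, 5] (by decide +kernel)
  have h02 := b [0, 2] [2, 0] (by decide +kernel)
  have h05 := b [0, 5] [5, 0] (by decide +kernel)
  have h25 := b [2, 5] [5, 2] (by decide +kernel)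
  have h04 := b [0, 4] [4, 0] (by decide +kernel)
  have h24 := b [2, 4] [4, 2] (by decide +kernel)
  have hx1 := b [1, 0, 2, 1, 1, 0, 2, 1] [] (by decide +kernel)
  have hx5 := b [1, 0, 2, 1, 5] [5, 1, 0, 2, 1] (by decide +kernel)
  have hx4 := b [1, 0, 2, 1, 4] [4, 1, 0, 2, 1] (by decide +kernel)
  have hxac := b [0, 2, 1, 0, 2, 1] [1, 0, 2, 1, 0, 2] (by decide +kernel)
  have hde := b [3, 4, 3, 4, 3, 4] [] (by decide +kernel)
  simp only [prodw_cons, prodw_nil, mul_one, val, ext1] at h00 h11 h22 h33 h44 h55 hes h02 h05 h25 h04 h24 hx1 hx5 hx4 hxac hde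
  have z0 := hz 0
  have z1 := hz 1
  have z2 := hz 2
  have z3 := hz 3
  have z4 := hz 4
  have z5 := hz 5
  have z8 := hz 8
  have z9 := hz 9
  have w0 : dl (mk B U) 0 = U * (U * (B.val .c * B.val .a)) := by
    simp [dl, relU, prodw, val, mk]
  have w1 : dl (mk B U) 1 = U⁻¹ * (B.val .a * (U * B.val .a)) := by
    simp [dl, relU, prodw, val, mk]
  have w2 : dl (mk B U) 2 = U⁻¹ * (B.val .c * (U * B.val .c)) := by
    simp [dl, relU, prodw, val, mk]
  have w3 : dl (mk B U) 3 = U⁻¹ * (B.val .e * (U * B.val .e)) := by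
    simp [dl, relU, prodw, val, mk]
  have w4 : dl (mk B U) 4 = B.val .d * B.val .e * (U⁻¹ * B.val .d * U) *
      (B.val .d * B.val .e * (U⁻¹ * B.val .d * U)) := by
    simp [dl, relU, prodw, val, mk, mul_assoc]
  have w5 : dl (mk B U) 5 = U⁻¹ * (B.val .b * B.val .c * B.val .a * B.val .b) * U *
      (B.val .b * B.val .a * B.val .c * B.val .b) * B.val .e := by
    simp [dl, relU, prodw, val, mk, mul_assoc]
  have w7 : dl (mk B U) 7 = U⁻¹ * B.val .t * U * B.val .t := by
    simp [dl, relU, prodw, val, mk, mul_assoc]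
  have w8 : dl (mk B U) 8 = B.val .e * ((B.val .s)⁻¹ * ((B.val .s)⁻¹ * (U⁻¹ * (B.val .s *
      (B.val .s * (B.val .e * ((B.val .s)⁻¹ * ((B.val .s)⁻¹ * (U * (B.val .s *
        B.val .s)))))))))) := by
    simp [dl, relU, prodw, val, mk]
  have w9 : dl (mk B U) 9 = B.val .a * B.val .c * ((U * B.val .s) ^ 3)⁻¹ := by
    simp [dl, relU, prodw, val, mk, mul_assoc, pow_succ]
  generalize B.val PGen.a = A at *
  generalize B.val PGen.b = Bb at *
  generalize B.val PGen.c = C at *
  generalize B.val PGen.d = D at *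
  generalize B.val PGen.e = E at *
  generalize B.val PGen.s = S at *
  generalize B.val PGen.t = T at *
  have hS7 : S ^ 7 = 1 := by simpa [pow_succ, mul_assoc] using h55
  have hEi := inv_eq_of_mul_eq_one_right h44
  have hAi := inv_eq_of_mul_eq_one_right h00
  have hBi := inv_eq_of_mul_eq_one_right h11
  have hCi := inv_eq_of_mul_eq_one_right h22
  have hDi := inv_eq_of_mul_eq_one_right h33
  have hES : E⁻¹ * S⁻¹ * E * S = (S ^ 3)⁻¹ * E * S ^ 3 := by
    rw [hEi]; simpa [pow_succ, mul_assoc] using hes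
  obtain ⟨X, hX⟩ : ∃ X, X = Bb * A * C * Bb := ⟨_, rfl⟩
  have hXi : Bb * C * A * Bb = X⁻¹ := by
    rw [hX, mul_inv_rev, mul_inv_rev, mul_inv_rev, hBi, hAi, hCi]; simp only [mul_assoc]
  have hXX : X * X = 1 := by rw [hX]; simpa [mul_assoc] using hx1
  have hXS : X * S = S * X := by rw [hX]; simpa [mul_assoc] using hx5
  have hXE : X * E = E * X := by rw [hX]; simpa [mul_assoc] using hx4
  have hACX : A * C * X = X * (A * C) := by rw [hX]; simpa [mul_assoc] using hxac
  have cA : A * C = C * A := h02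
  have hU2 : U * U = A * C * dl (mk B U) 0 := by
    rw [← zc z0 (A * C), w0, show A * C = (C * A)⁻¹ by rw [mul_inv_rev, hCi, hAi]]
    group
  have hU3 : (U * S) ^ 3 = A * C * (dl (mk B U) 9)⁻¹ := by
    rw [← zc (inv_mem z9) (A * C), w9]; group
  have j := inv_mem z9
  have hUA : U⁻¹ * A * U = A * dl (mk B U) 1 := by
    rw [← zc z1 A, w1]; simp only [mul_assoc, h00, mul_one]
  have hUC : U⁻¹ * C * U = C * dl (mk B U) 2 := by
    rw [← zc z2 C, w2]; simp only [mul_assoc, h22, mul_one]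
  have hUE : U⁻¹ * E * U = E * dl (mk B U) 3 := by
    rw [← zc z3 E, w3]; simp only [mul_assoc, h44, mul_one]
  have hUX : U⁻¹ * X * U = E * X * dl (mk B U) 5 := by
    rw [← zc z5 (E * X), w5, hXi, inv_eq_of_mul_eq_one_right hXX, ← hX]
    simp only [mul_assoc]
    rw [← mul_assoc E E, h44, one_mul, hXX, mul_one]
  have x5 : xs E S 5 = S * S * E * (S⁻¹ * S⁻¹) := by
    have e : S ^ 5 = S⁻¹ * S⁻¹ := by
      rw [← mul_inv_rev, eq_inv_iff_mul_eq_one, ← pow_two, ← pow_add, hS7]
    rw [xs, e, mul_inv_rev, inv_inv]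
  have hU5 : U⁻¹ * xs E S 5 * U = xs E S 5 * dl (mk B U) 8 := by
    have e : dl (mk B U) 8 = xs E S 5 * (U⁻¹ * xs E S 5 * U) := by
      calc dl (mk B U) 8 = S * S * dl (mk B U) 8 * (S⁻¹ * S⁻¹) := by
            rw [← zc z8 (S * S)]; group
        _ = xs E S 5 * (U⁻¹ * xs E S 5 * U) := by rw [w8, x5]; group
    rw [e, ← mul_assoc (xs E S 5), xs_one hS7 hES h44, one_mul]
  have fA := u_comm z1 j h00 cA h05 hU3 hUA
  have fC : U⁻¹ * C * U = C := u_comm z2 j h22 cA.symm h25 (by rw [← cA]; exact hU3) hUC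
  obtain ⟨fE, fX, f5⟩ := u_exact hS7 hES h44 h05 h25 h04 h24 hXS hXE hXX hACX z0 j hU2 hU3 z3 z5
    z8 hUE hUX hU5
  rw [hUA] at fA
  rw [hUC] at fC
  rw [hUE] at fE
  rw [hUX] at fX
  rw [hU5] at f5
  refine ⟨mul_eq_left.mp fA, mul_eq_left.mp fC, mul_eq_left.mp fE, mul_eq_left.mp fX, ?_,
    mul_eq_left.mp f5, ?_⟩
  · rw [w7, htu, inv_mul_cancel]
  · obtain ⟨R, hR⟩ : ∃ R, R = D * E := ⟨_, rfl⟩
    obtain ⟨Y, hY⟩ : ∃ Y, Y = U⁻¹ * D * U := ⟨_, rfl⟩
    have hY2 : Y * Y = 1 := by rw [hY, ← cj_mul, h33]; group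
    have hR3 : R ^ 3 = 1 := by rw [hR]; simpa [pow_succ, mul_assoc] using hde
    rw [← hR, ← hY] at w4
    have e : Y * R * Y = R⁻¹ * dl (mk B U) 4 := by rw [w4]; group
    have e3 := congrArg (· ^ 3) e
    rw [zmul_pow z4, inv_pow, hR3, inv_one, one_mul] at e3
    rw [← e3]
    calc (Y * R * Y) ^ 3 = Y * (R * (Y * Y) * R * (Y * Y) * R) * Y := by
          simp only [pow_succ, pow_zero, one_mul, mul_assoc]
      _ = 1 := by rw [hY2, mul_one, mul_one, ← pow_two, ← pow_succ, hR3, mul_one, hY2]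

/-- The effect of a central change of the lift of `u`. -/
theorem dl_scale {y : Γ} (hy : y ∈ center Γ) :
    dl (mk B (U * y)) 0 = dl (mk B U) 0 * y ^ 2 ∧
      dl (mk B (U * y)) 9 = dl (mk B U) 9 * (y ^ 3)⁻¹ := by
  have hy' := inv_mem hy
  constructor
  · simp only [dl, show relU.getD 0 [] = [9, 9, 2, 0] from rfl, prodw_cons, prodw_nil, mul_one, val,
      mk, pow_two]
    calc U * y * (U * y * (B.val PGen.c * B.val PGen.a))
        = U * (U * y) * y * (B.val PGen.c * B.val PGen.a) := by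
          simp only [mul_assoc, zc' hy U]
      _ = U * U * (y * y * (B.val PGen.c * B.val PGen.a)) := by simp only [mul_assoc]
      _ = U * (U * (B.val PGen.c * B.val PGen.a)) * (y * y) := by
          rw [zc (mul_mem hy hy)]; simp only [mul_assoc]
  · simp only [dl, show relU.getD 9 [] = [0, 2, 6, 10, 6, 10, 6, 10] from rfl, prodw_cons, prodw_nil,
      mul_one, val, mk, zinv hy]
    have e : ∀ A C R Q k : Γ, k ∈ center Γ →
        A * (C * (R * (Q * k * (R * (Q * k * (R * (Q * k))))))) =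
          A * (C * (R * (Q * (R * (Q * (R * Q)))))) * (k * (k * k)) := by
      intro A C R Q k hk
      simp only [mul_assoc]
      rw [zc' hk R (Q * (k * (R * (Q * k)))), zc' hk Q (k * (R * (Q * k))),
        zc' hk R (Q * k), zc' hk Q k, zc' hk R (Q * (k * k)), zc' hk Q (k * k)]
    rw [e _ _ _ _ _ hy']
    congr 1
    simp only [pow_succ, pow_zero, one_mul, mul_inv_rev]

omit hU hker

/-- The image of `P` meets the kernel trivially. -/
theorem range_inter (hinj : Function.Injective emb) {z : Γ} (hz : z ∈ σ.ker)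
    (hr : z ∈ (phi B).range) : z = 1 := by
  obtain ⟨y, rfl⟩ := hr
  have e : σ.comp (phi B) = emb := by
    refine PresentedGroup.ext fun x => ?_
    rw [MonoidHom.comp_apply, emb_of]
    cases x
    all_goals
      first
        | exact (congrArg σ ((exists_lift B.val B.rel).choose_spec 0)).trans (B.lift 0 (by norm_num))
        | exact (congrArg σ ((exists_lift B.val B.rel).choose_spec 1)).trans (B.lift 1 (by norm_num))
        | exact (congrArg σ ((exists_lift B.val B.rel).choose_spec 2)).trans (B.lift 2 (by norm_num))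
        | exact (congrArg σ ((exists_lift B.val B.rel).choose_spec 3)).trans (B.lift 3 (by norm_num))
        | exact (congrArg σ ((exists_lift B.val B.rel).choose_spec 4)).trans (B.lift 4 (by norm_num))
        | exact (congrArg σ ((exists_lift B.val B.rel).choose_spec 5)).trans (B.lift 5 (by norm_num))
        | exact (congrArg σ ((exists_lift B.val B.rel).choose_spec 7)).trans (B.lift 7 (by norm_num))
  have : emb y = emb 1 := by
    rw [map_one, ← e, MonoidHom.comp_apply]; exact hz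
  rw [hinj this, map_one]

variable (hinj : Function.Injective emb)
include hker hinj

/-- A lift of `u` satisfying all relators exists. -/
theorem exists_u (hsur : Function.Surjective σ) {p : ℕ} (hp : p.Prime)
    (hexp : ∀ z ∈ σ.ker, z ^ p = 1) :
    ∃ U, σ U = g 9 ∧ ∀ k < 12, dl (mk B U) k = 1 := by
  have hB : ABound := P_bound
  have cen : ∀ {z}, z ∈ σ.ker → z ∈ center Γ := fun h => hker h
  have triv : ∀ {z}, z ∈ σ.ker → z ∈ (phi B).range → z = 1 := fun h h' => range_inter B hinj h h'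
  have shift : ∀ {U : Γ}, σ U = g 9 → ∀ {y : Γ}, y ∈ σ.ker → σ (U * y) = g 9 :=
    fun hU y hy => by rw [map_mul, hU, MonoidHom.mem_ker.mp hy, mul_one]
  obtain ⟨U₀, hU₀⟩ := hsur (g 9)
  -- `u² = ac`
  obtain ⟨U₁, hU₁, h0⟩ : ∃ U, σ U = g 9 ∧ dl (mk B U) 0 = 1 := by
    have kk := dl_ker B hU₀
    rcases hp.eq_two_or_odd with h2 | hodd
    · subst h2
      have y2 : ∀ {z}, z ∈ σ.ker → z ^ 2 = 1 := fun h => hexp _ h
      have hU := shift hU₀ (kk 9)
      refine ⟨U₀ * dl (mk B U₀) 9, hU, ?_⟩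
      obtain ⟨-, e9⟩ := dl_scale hker B hU₀ (cen (kk 9))
      rw [show dl (mk B U₀) 9 * (dl (mk B U₀) 9 ^ 3)⁻¹ = (dl (mk B U₀) 9 ^ 2)⁻¹ by group,
        y2 (kk 9), inv_one] at e9
      obtain ⟨a1, a2, a3, a5, a7, a8, a4⟩ := u_facts hker B hU
      have a4' : dl (mk B (U₀ * dl (mk B U₀) 9)) 4 = 1 := by
        rw [pow_succ, y2 (dl_ker B hU 4), one_mul] at a4; exact a4
      have s : ∀ k, dl (mk B (U₀ * dl (mk B U₀) 9)) k * dl (mk B (U₀ * dl (mk B U₀) 9)) k = 1 :=
        fun k => by rw [← pow_two]; exact y2 (dl_ker B hU k)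
      exact triv (dl_ker B hU 0) (two_mem hB (invol_mk B _) (phi_pg B _) a1 a2 a3 a4' a5 a7 a8 e9
        (dl_center hker B hU 0) (dl_center hker B hU 11) (s 0) (s 11))
    · have hy : (dl (mk B U₀) 0)⁻¹ ^ ((p + 1) / 2) ∈ σ.ker := pow_mem (inv_mem (kk 0)) _
      refine ⟨U₀ * _, shift hU₀ hy, ?_⟩
      rw [(dl_scale hker B hU₀ (cen hy)).1, ← pow_mul,
        show (p + 1) / 2 * 2 = p + 1 by omega, pow_succ, hexp _ (inv_mem (kk 0)), one_mul,
        mul_inv_cancel]
  obtain ⟨a1, a2, a3, a5, a7, a8, -⟩ := u_facts hker B hU₁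
  have a4 := triv (dl_ker B hU₁ 4) (four_mem hB (invol_mk B _) (phi_pg B _) a1 a2 a3 h0 a5
    (dl_center hker B hU₁ 6) (dl_center hker B hU₁ 4)).2
  -- `(us)^3 = ac`
  have kk := dl_ker B hU₁
  have j2 := triv (mul_mem (kk 9) (kk 9)) (sixJ_mem hB (invol_mk B _) (phi_pg B _) a1 a2 a3 h0 a4
    a7 a8 (dl_center hker B hU₁ 9) (dl_center hker B hU₁ 11))
  have hU := shift hU₁ (kk 9)
  obtain ⟨e0, e9⟩ := dl_scale hker B hU₁ (cen (kk 9))
  rw [h0, one_mul, pow_two, j2] at e0
  rw [pow_succ, pow_two, j2, one_mul, mul_inv_cancel] at e9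
  refine ⟨_, hU, ?_⟩
  obtain ⟨b1, b2, b3, b5, b7, b8, -⟩ := u_facts hker B hU
  obtain ⟨c6, c4⟩ := four_mem hB (invol_mk B _) (phi_pg B _) b1 b2 b3 e0 b5
    (dl_center hker B hU 6) (dl_center hker B hU 4)
  have b4 := triv (dl_ker B hU 4) c4
  have b6 := triv (dl_ker B hU 6) c6
  obtain ⟨c10, c11⟩ := six_mem hB (invol_mk B _) (phi_pg B _) b1 b2 b3 e0 b4 b7 b8 e9
    (dl_center hker B hU 10) (dl_center hker B hU 11)
  have b10 := triv (dl_ker B hU 10) c10
  have b11 := triv (dl_ker B hU 11) c11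
  intro k hk
  interval_cases k <;> assumption

omit hker hinj in
/-- A stem extension with kernel of exponent `p` is trivial. -/
theorem ker_eq_bot (hinj : Function.Injective emb) {p : ℕ} (hp : p.Prime)
    {Δ : Type} [Group Δ] (π : Δ →* Cfsg.Spor.Th) (hπ : Cfsg.IsStemExtension π)
    (hexp : ∀ z ∈ π.ker, z ^ p = 1) : π.ker = ⊥ := by
  obtain ⟨hsur, hcen, hcom⟩ := hπ
  obtain ⟨B⟩ := exists_base hsur hcen hp hexp
  obtain ⟨U, hU, hrel⟩ := exists_u hcen B hinj hsur hp hexp
  have hr : ∀ w ∈ relA ++ relU, prodw (val (mk B U)) w = 1 := by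
    intro w hw
    rcases List.mem_append.mp hw with hw | hw
    · rw [← B.rel w hw]
      exact prodw_congr fun i hi => val_mk B U (relA_lt w hw i hi)
    · obtain ⟨k, hk, rfl⟩ := List.getElem_of_mem hw
      have := hrel k hk
      rwa [dl, List.getD_eq_getElem _ _ hk] at this
  let ψ : Cfsg.Spor.Th →* Δ := PresentedGroup.toGroup (f := mk B U) (lift_eq_one (mk B U) hr)
  have hsec : π.comp ψ = MonoidHom.id _ := by
    refine PresentedGroup.ext fun x => ?_
    rw [MonoidHom.comp_apply, MonoidHom.id_apply, show ψ (PresentedGroup.of x) = mk B U x from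
      PresentedGroup.toGroup.of _]
    cases x
    exacts [B.lift 0 (by norm_num), B.lift 1 (by norm_num), B.lift 2 (by norm_num),
      B.lift 3 (by norm_num), B.lift 4 (by norm_num), B.lift 5 (by norm_num),
      B.lift 7 (by norm_num), hU]
  have hs : ∀ g, π (ψ g) = g := fun g => DFunLike.congr_fun hsec g
  have hle : commutator Δ ≤ ψ.range := by
    rw [commutator_def, Subgroup.commutator_le]
    intro x _ y _
    have dec : ∀ x : Δ, ∃ k ∈ center Δ, x = ψ (π x) * k := fun x =>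
      ⟨(ψ (π x))⁻¹ * x, hcen (by rw [MonoidHom.mem_ker, map_mul, map_inv, hs, inv_mul_cancel]),
        (mul_inv_cancel_left _ _).symm⟩
    obtain ⟨k, hk, hx⟩ := dec x
    obtain ⟨l, hl, hy⟩ := dec y
    refine ⟨⁅π x, π y⁆, ?_⟩
    rw [map_commutatorElement]
    conv_rhs => rw [hx, hy]
    generalize ψ (π x) = a, ψ (π y) = b
    rw [commutatorElement_def, commutatorElement_def,
      show a * k * (b * l) * (a * k)⁻¹ * (b * l)⁻¹ = a * (k * (b * l) * k⁻¹) * a⁻¹ * (b * l)⁻¹ by group,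
      zc hk (b * l), mul_inv_cancel_right,
      show a * (b * l) * a⁻¹ * (b * l)⁻¹ = a * b * (l * a⁻¹) * (b * l)⁻¹ by group, zc hl a⁻¹]
    group
  rw [eq_bot_iff]
  intro z hz
  obtain ⟨g, rfl⟩ := hle (hcom hz)
  rw [MonoidHom.mem_ker, hs] at hz
  rw [Subgroup.mem_bot, hz, map_one]

end

end CfsgLib.ThMult
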