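import Cfsg.Agent.ThMult.Basic
import Cfsg.Agent.ThCert.ABound
import Cfsg.Agent.ThCert.Sep

/-!
Lifts of the generators `a, …, t` of the Thompson group to a central extension by a group of
exponent `p`, satisfying the relators without `u` exactly.
-/

set_option autoImplicit false
set_option maxRecDepth 100000

namespace CfsgLib.ThMult

open CfsgLib.CosetEnum CfsgLib.ThCert Cfsg.Spor
open Subgroup (center)

noncomputable section

/-- Two words without `u` spell the same element. -/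
theorem pid (u v : List ℕ)
    (h : ((u.all fun x => Nat.blt x 9) && (v.all fun x => Nat.blt x 9) && same u v) = true) :
    prodw g u = prodw g v := by
  simp only [Bool.and_eq_true, List.all_eq_true, Nat.blt_eq] at h
  rw [← emb_prodw h.1.1, ← emb_prodw h.1.2, eq_of_same_of P_bound h.1.1 h.1.2 h.2]

variable {Γ : Type} [Group Γ]

/-- Lifts of `a, …, t` satisfying the relators without `u`. -/
structure Base (σ : Γ →* Cfsg.Spor.Th) where
  /-- The lifts. -/
  val : PGen → Γ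
  lift : ∀ i < 9, σ (ThCert.val (ext1 val) i) = g i
  rel : ∀ w ∈ relA, prodw (ThCert.val (ext1 val)) w = 1
  tu : ∀ U : Γ, σ U = g 9 → U⁻¹ * val .t * U = (val .t)⁻¹

theorem braid_sq {B C q : Γ} (hq : q ∈ center Γ) (h : B * C * B = C * B * C) (hC : C * C = q) :
    B * B = q := by
  calc B * B = (C * B * C * (C * B)⁻¹) * (C * B * C * (C * B)⁻¹) := by rw [braid_conj h]
    _ = (C * B) * (C * C) * (C * B)⁻¹ := by group
    _ = q := by rw [hC, ← zc hq, mul_inv_cancel_right]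

theorem braid_scale {B C x : Γ} (hx : x ∈ center Γ) (h : B * C * B = C * B * C) :
    B * x * (C * x) * (B * x) = C * x * (B * x) * (C * x) := by
  have e : ∀ P Q : Γ, P * x * (Q * x) * (P * x) = P * Q * P * (x * x * x) := fun P Q => by
    simp only [mul_assoc, zc' hx]
  rw [e, e, h]

theorem braid_fix {B C z : Γ} (hz : z ∈ center Γ) (h : B * C * B = C * B * C * z) :
    B * z⁻¹ * C * (B * z⁻¹) = C * (B * z⁻¹) * C := by
  have e : B * z⁻¹ * C * (B * z⁻¹) = B * C * B * (z⁻¹ * z⁻¹) := by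
    simp only [mul_assoc, zc' (inv_mem hz)]
  rw [e, h, show C * B * C * z * (z⁻¹ * z⁻¹) = C * B * C * z⁻¹ by group,
    mul_assoc (C * B) C, ← zc (inv_mem hz) C]
  simp only [mul_assoc]

theorem cube_braid {B C : Γ} (hB : B * B = 1) (hC : C * C = 1) (h : B * C * B = C * B * C) :
    B * (C * (B * (C * (B * C)))) = 1 := by
  calc B * (C * (B * (C * (B * C)))) = B * C * B * (C * B * C) := by group
    _ = B * C * (B * B) * C * B := by rw [← h]; group
    _ = 1 := by rw [hB, mul_one, mul_assoc B C C, hC, mul_one, hB]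

variable {σ : Γ →* Cfsg.Spor.Th} {p : ℕ}

/-- Lifts satisfying the relators without `u` exist. -/
theorem exists_base (hsur : Function.Surjective σ) (hker : σ.ker ≤ center Γ) (hp : p.Prime)
    (hexp : ∀ z ∈ σ.ker, z ^ p = 1) : Nonempty (Base σ) := by
  have lifts : ∀ i, ∃ X, σ X = g i := fun i => hsur (g i)
  choose L hL using lifts
  have ker : ∀ X Y : Γ, σ X = σ Y → ∃ z ∈ center Γ, z ∈ σ.ker ∧ X = Y * z := fun X Y e => by
    have hm : Y⁻¹ * X ∈ σ.ker := by
      rw [MonoidHom.mem_ker, map_mul, map_inv, e, inv_mul_cancel]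
    exact ⟨_, hker hm, hm, (mul_inv_cancel_left _ _).symm⟩
  have one : ∀ {X : Γ}, σ X = 1 → X ∈ center Γ := fun e => hker (MonoidHom.mem_ker.mpr e)
  have drop : ∀ {X z : Γ}, z ∈ σ.ker → σ (X * z) = σ X := fun hz => by
    rw [map_mul, MonoidHom.mem_ker.mp hz, mul_one]
  have invg : ∀ i, i < 5 → (g i)⁻¹ = g i := by
    intro i hi
    have e : prodw g [i, i] = 1 := g_rel _ (List.mem_append_left _ (relA_sq i hi))
    simp only [prodw_cons, prodw_nil, mul_one] at e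
    exact inv_eq_of_mul_eq_one_right e
  have g6 : g 6 = (g 5)⁻¹ := rfl
  have g8 : g 8 = (g 7)⁻¹ := rfl
  -- `s` and `t`
  have hT3 : L 7 ^ 3 ∈ center Γ := one (by
    rw [map_pow, hL]
    simpa [prodw, pow_succ, mul_assoc] using pid [7, 7, 7] [] (by decide +kernel))
  obtain ⟨z, hzc, hzk, hz⟩ := ker ((L 7)⁻¹ * L 5 * L 7) (L 5 ^ 2) (by
    simpa [map_mul, map_inv, hL, prodw, pow_succ, mul_assoc, g6, g8] using
      pid [8, 5, 7] [5, 5] (by decide +kernel))
  obtain ⟨S, hSd⟩ : ∃ S, S = L 5 * z := ⟨_, rfl⟩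
  have gS : σ S = g 5 := by rw [hSd, drop hzk, hL]
  have hS : (L 7)⁻¹ * S * L 7 = S ^ 2 := by rw [hSd]; exact s_norm hzc hz
  have hS7 : S ^ 7 = 1 := s_seven hT3 hS
  have hSi : (L 7)⁻¹ * S⁻¹ * L 7 = S⁻¹ ^ 2 := by
    rw [inv_pow, ← hS]; group
  clear hz hSd hzc hzk z
  -- `e`
  obtain ⟨ν, hνc, hνk, hν⟩ := ker ((L 4)⁻¹ * S⁻¹ * L 4 * S) ((S ^ 3)⁻¹ * L 4 * S ^ 3) (by
    simpa [map_mul, map_inv, gS, hL, prodw, pow_succ, mul_assoc, g6, g8, invg 4 (by norm_num)]
      using pid [4, 6, 4, 5] [6, 6, 6, 4, 5, 5, 5] (by decide +kernel))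
  obtain ⟨E, hEd⟩ : ∃ E, E = L 4 * ν := ⟨_, rfl⟩
  have gE : σ E = g 4 := by rw [hEd, drop hνk, hL]
  have hES : E⁻¹ * S⁻¹ * E * S = (S ^ 3)⁻¹ * E * S ^ 3 := by
    rw [hEd, cj_central hνc, ← hν, zinv hνc]
    calc (L 4)⁻¹ * ν⁻¹ * S⁻¹ * (L 4 * ν) * S
        = (L 4)⁻¹ * (ν⁻¹ * S⁻¹) * L 4 * (ν * S) := by simp only [mul_assoc]
      _ = (L 4)⁻¹ * S⁻¹ * (ν⁻¹ * L 4) * (S * ν) := by
        rw [zc (inv_mem hνc) S⁻¹, zc hνc S]; simp only [mul_assoc]
      _ = (L 4)⁻¹ * S⁻¹ * L 4 * S * (ν⁻¹ * ν) := by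
        rw [zc (inv_mem hνc) (L 4)]; simp only [mul_assoc, zc' (inv_mem hνc)]
      _ = (L 4)⁻¹ * S⁻¹ * L 4 * S := by rw [inv_mul_cancel, mul_one]
  have hE : E * E = 1 := e_sq_one (one (by
    simpa [map_mul, gE, prodw] using pid [4, 4] [] (by decide +kernel))) hS7 hES rfl
  clear hν hEd hνc hνk ν
  have hTE : (L 7)⁻¹ * E * L 7 = E := by
    obtain ⟨w, hwc, -, hw⟩ := ker ((L 7)⁻¹ * E * L 7) E (by
      simpa [map_mul, map_inv, gE, hL, prodw, mul_assoc, g8] using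
        pid [8, 4, 7] [4] (by decide +kernel))
    exact t_comm_e hS7 hES hE hwc hS hw
  have hT : ∀ X i, i < 4 → σ X = g i → (L 7)⁻¹ * X * L 7 = X := by
    intro X i hi hX
    obtain ⟨w, hwc, -, hw⟩ := ker ((L 7)⁻¹ * X * L 7) X (by
      interval_cases i <;> simpa [map_mul, map_inv, hX, hL, prodw, mul_assoc, g8] using
        pid [8, _, 7] [_] (by decide +kernel))
    refine comm_two_three hwc (one ?_) hT3 hw
    interval_cases i <;> simpa [map_pow, pow_two, hX, prodw] using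
      pid [_, _] [] (by decide +kernel)
  have hSE : ∀ X i, i < 3 → σ X = g i → Commute X S ∧ Commute X E := by
    intro X i hi hX
    have hXT := hT X i (by omega) hX
    obtain ⟨w, hwc, -, hw⟩ := ker (X * S * X⁻¹) S (by
      interval_cases i <;> simpa [map_mul, map_inv, hX, gS, prodw, mul_assoc,
        invg 0 (by norm_num), invg 1 (by norm_num), invg 2 (by norm_num)] using
        pid [_, 5, _] [5] (by decide +kernel))
    have e1 := conj_S_exact (X := X) hwc (Subgroup.one_mem _) hS hS (by rw [mul_one, hXT]) hw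
    obtain ⟨w', hwc', -, hw'⟩ := ker (X * E * X⁻¹) E (by
      interval_cases i <;> simpa [map_mul, map_inv, hX, gE, prodw, mul_assoc,
        invg 0 (by norm_num), invg 1 (by norm_num), invg 2 (by norm_num)] using
        pid [_, 4, _] [4] (by decide +kernel))
    exact ⟨mul_inv_eq_iff_eq_mul.mp e1,
      mul_inv_eq_iff_eq_mul.mp (comm_e hS7 hES hE hwc' e1 hw')⟩
  -- `d`
  obtain ⟨δ, hδc, hδk, hδ⟩ := ker (L 3 * E * L 3) (E * L 3 * E) (by
    simpa [map_mul, gE, hL, prodw, mul_assoc] using pid [3, 4, 3] [4, 3, 4] (by decide +kernel))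
  obtain ⟨D, hDd⟩ : ∃ D, D = L 3 * δ⁻¹ := ⟨_, rfl⟩
  have gD : σ D = g 3 := by rw [hDd, drop (inv_mem hδk), hL]
  have hDE : D * E * D = E * D * E := by rw [hDd]; exact braid_fix hδc hδ
  have hD : D * D = 1 := braid_sq (Subgroup.one_mem _) hDE hE
  have hDi := inv_eq_of_mul_eq_one_right hD
  have hDS : D * S * D = S⁻¹ := by
    obtain ⟨w, hwc, -, hw⟩ := ker (D * S * D⁻¹) S⁻¹ (by
      simpa [map_mul, map_inv, gD, gS, prodw, mul_assoc, invg 3 (by norm_num), g6] using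
        pid [3, 5, 3] [6] (by decide +kernel))
    have e := conj_S_exact (X := D) hwc (Subgroup.one_mem _) hS hSi
      (by rw [mul_one, hT D 3 (by norm_num) gD]) hw
    rwa [hDi] at e
  have hBD : ∀ X i, i < 2 → σ X = g i → X * D = D * X := by
    intro X i hi hX
    obtain ⟨w, hwc, -, hw⟩ := ker (X * D) (D * X) (by
      interval_cases i <;> simpa [map_mul, hX, gD, prodw] using
        pid [_, 3] [3, _] (by decide +kernel))
    exact comm_braid hwc hDE (hSE X i (by omega) hX).2.eq hw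
  -- `c`, `b`, `a`
  obtain ⟨β, hβc, hβk, hβ⟩ := ker (L 1 * L 2 * L 1) (L 2 * L 1 * L 2) (by
    simpa [map_mul, hL, prodw, mul_assoc] using pid [1, 2, 1] [2, 1, 2] (by decide +kernel))
  obtain ⟨B₁, hB₁d⟩ : ∃ B, B = L 1 * β⁻¹ := ⟨_, rfl⟩
  have gB₁ : σ B₁ = g 1 := by rw [hB₁d, drop (inv_mem hβk), hL]
  have hBC₁ : B₁ * L 2 * B₁ = L 2 * B₁ * L 2 := by rw [hB₁d]; exact braid_fix hβc hβ
  obtain ⟨α, hαc, hαk, hα⟩ := ker (L 0 * B₁ * L 0) (B₁ * L 0 * B₁) (by
    simpa [map_mul, gB₁, hL, prodw, mul_assoc] using pid [0, 1, 0] [1, 0, 1] (by decide +kernel))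
  obtain ⟨A₁, hA₁d⟩ : ∃ A, A = L 0 * α⁻¹ := ⟨_, rfl⟩
  have gA₁ : σ A₁ = g 0 := by rw [hA₁d, drop (inv_mem hαk), hL]
  have hAB₁ : A₁ * B₁ * A₁ = B₁ * A₁ * B₁ := by rw [hA₁d]; exact braid_fix hαc hα
  have gq : σ (L 2 * L 2) = 1 := by
    simpa [map_mul, hL, prodw] using pid [2, 2] [] (by decide +kernel)
  obtain ⟨ζ, hζc, hζk, hζ⟩ := ker A₁ ((L 2 * D) ^ 4) (by
    simpa [map_mul, map_pow, gA₁, gD, hL, prodw, pow_succ, mul_assoc] using
      pid [0] [2, 3, 2, 3, 2, 3, 2, 3] (by decide +kernel))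
  have hqc := one gq
  obtain ⟨hC, hA, hA4⟩ := scale hqc hζc rfl
    (braid_sq hqc hAB₁ (braid_sq hqc hBC₁ rfl)) hD (hBD A₁ 0 (by norm_num) gA₁) hζ
  have hxk : ζ * (L 2 * L 2) ∈ σ.ker := mul_mem hζk (MonoidHom.mem_ker.mpr gq)
  have hxc := hker hxk
  generalize ζ * (L 2 * L 2) = x at hC hA hA4 hxk hxc
  have hBC := braid_scale hxc hBC₁
  have hAB := braid_scale hxc hAB₁
  have gA : σ (A₁ * x) = g 0 := by rw [drop hxk, gA₁]
  have gB : σ (B₁ * x) = g 1 := by rw [drop hxk, gB₁]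
  have gC : σ (L 2 * x) = g 2 := by rw [drop hxk, hL]
  generalize A₁ * x = A, B₁ * x = B, L 2 * x = C at hC hA hA4 hBC hAB gA gB gC
  have hB : B * B = 1 := braid_sq (Subgroup.one_mem _) hBC hC
  have hAi := inv_eq_of_mul_eq_one_right hA
  have hBi := inv_eq_of_mul_eq_one_right hB
  have hCi := inv_eq_of_mul_eq_one_right hC
  have hEi := inv_eq_of_mul_eq_one_right hE
  have hAS := hSE A 0 (by norm_num) gA
  have hBS := hSE B 1 (by norm_num) gB
  have hCS := hSE C 2 (by norm_num) gC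
  have hBD' := hBD B 1 (by norm_num) gB
  -- `(bcde)^8`
  obtain ⟨W, hWd⟩ : ∃ W, W = B * C * D * E := ⟨_, rfl⟩
  have hψk : W ^ 8 ∈ σ.ker := by
    rw [MonoidHom.mem_ker]
    simpa [hWd, map_mul, map_pow, gB, gC, gD, gE, prodw, pow_succ, mul_assoc] using
      pid ([1, 2, 3, 4, 1, 2, 3, 4, 1, 2, 3, 4, 1, 2, 3, 4, 1, 2, 3, 4, 1, 2, 3, 4, 1, 2, 3, 4,
        1, 2, 3, 4]) [] (by decide +kernel)
  have hψ2 : (W ^ 8) ^ 2 = 1 := by
    have e := congrArg (· ^ 8) (coxeter_conj hB hC hD hE hBD' hBS.2.eq hCS.2.eq)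
    simp only [← hWd] at e
    rw [conj_pow, inv_pow, ← zc (hker hψk), mul_inv_cancel_right] at e
    rw [pow_two]
    exact eq_inv_iff_mul_eq_one.mp e
  have hψ : W ^ 8 = 1 := by
    rcases hp.eq_two_or_odd with h2 | hodd
    · subst h2
      obtain ⟨G, hG⟩ := hsur (prodw g [3, 1, 2, 3, 1, 2, 3, 4, 1, 2, 3, 2, 1])
      obtain ⟨z, hzc, hzk, hz⟩ := ker (W ^ 4) (G * A * G⁻¹) (by
        have e := pid [1, 2, 3, 4, 1, 2, 3, 4, 1, 2, 3, 4, 1, 2, 3, 4]
          ([3, 1, 2, 3, 1, 2, 3, 4, 1, 2, 3, 2, 1] ++ 0 :: [1, 2, 3, 2, 1, 4, 3, 2, 1, 3, 2, 1, 3])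
          (by decide +kernel)
        simpa [hWd, map_mul, map_pow, map_inv, gA, gB, gC, gD, gE, hG, prodw, pow_succ, mul_assoc,
          invg 1 (by norm_num), invg 2 (by norm_num), invg 3 (by norm_num),
          invg 4 (by norm_num)] using e)
      rw [show W ^ 8 = (W ^ 4) ^ 2 by rw [← pow_mul], hz, zmul_pow hzc, hexp z hzk, conj_pow,
        pow_two A, hA, mul_one, mul_one, mul_inv_cancel]
    · have hco : Nat.Coprime 2 p :=
        (Nat.coprime_primes Nat.prime_two hp).mpr (by rintro rfl; norm_num at hodd)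
      have := pow_gcd_eq_one.mpr ⟨hψ2, hexp _ hψk⟩
      rwa [hco.gcd_eq_one, pow_one] at this
  -- `t`
  obtain ⟨w, hwc, hwk, hw⟩ := ker ((L 9)⁻¹ * L 7 * L 9) (L 7)⁻¹ (by
    have e := g_rel [10, 7, 9, 7] (List.mem_append_right _ (by decide))
    simp only [prodw_cons, prodw_nil, mul_one] at e
    rw [map_mul, map_mul, map_inv, map_inv, hL, hL]
    refine eq_inv_of_mul_eq_one_left ?_
    rw [mul_assoc, mul_assoc]
    exact e)
  obtain ⟨hTo, hTU⟩ := t_norm hT3 hwc rfl hw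
  have hyk : w * (L 7 ^ 3)⁻¹ ∈ σ.ker :=
    mul_mem hwk (inv_mem (MonoidHom.mem_ker.mpr (by
      rw [map_pow, hL]
      simpa [prodw, pow_succ, mul_assoc] using pid [7, 7, 7] [] (by decide +kernel))))
  have hyc := hker hyk
  obtain ⟨T, hTd⟩ : ∃ T, T = L 7 * (w * (L 7 ^ 3)⁻¹) := ⟨_, rfl⟩
  rw [← hTd] at hTo hTU
  have gT : σ T = g 7 := by rw [hTd, drop hyk, hL]
  have cjT : ∀ X, T⁻¹ * X * T = (L 7)⁻¹ * X * L 7 := by
    intro X
    rw [hTd, zinv hyc]
    generalize w * (L 7 ^ 3)⁻¹ = y at hyc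
    calc (L 7)⁻¹ * y⁻¹ * X * (L 7 * y) = (L 7)⁻¹ * (y⁻¹ * X) * L 7 * y := by
          simp only [mul_assoc]
      _ = (L 7)⁻¹ * X * (y⁻¹ * L 7) * y := by
          rw [zc (inv_mem hyc) X]; simp only [mul_assoc]
      _ = (L 7)⁻¹ * X * L 7 := by
          rw [zc (inv_mem hyc) (L 7)]; simp only [mul_assoc, inv_mul_cancel, mul_one]
  refine ⟨⟨fun x => match x with
      | .a => A | .b => B | .c => C | .d => D | .e => E | .s => S | .t => T, ?_, ?_, ?_⟩⟩
  · intro i hi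
    interval_cases i <;> simp [ThCert.val, ext1, gA, gB, gC, gD, gE, gS, gT, g6, g8]
  · have f7 : ∀ X i, i < 4 → σ X = g i → T⁻¹ * X * T = X :=
      fun X i hi hX => by rw [cjT]; exact hT X i hi hX
    have t1 := f7 A 0 (by norm_num) gA
    have t2 := f7 B 1 (by norm_num) gB
    have t3 := f7 C 2 (by norm_num) gC
    have t4 := f7 D 3 (by norm_num) gD
    have t5 : T⁻¹ * E * T = E := by rw [cjT]; exact hTE
    have t6 : T⁻¹ * S * T = S ^ 2 := by rw [cjT]; exact hS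
    have two : ∀ {X Y : Γ}, X * X = 1 → Y * Y = 1 → X * Y = Y * X → X * (Y * (X * Y)) = 1 := by
      intro X Y hX hY e
      calc X * (Y * (X * Y)) = X * (Y * X) * Y := by group
        _ = X * X * (Y * Y) := by rw [← e]; group
        _ = 1 := by rw [hX, hY, mul_one]
    have com : ∀ {X R : Γ}, X * X = 1 → X * R = R * X → R⁻¹ * (X * (R * X)) = 1 := by
      intro X R hX e
      calc R⁻¹ * (X * (R * X)) = R⁻¹ * (X * R) * X := by group
        _ = 1 := by rw [e, inv_mul_cancel_left, hX]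
    have tcom : ∀ {X : Γ}, X * X = 1 → T⁻¹ * X * T = X → T⁻¹ * (X * (T * X)) = 1 := by
      intro X hX e
      calc T⁻¹ * (X * (T * X)) = T⁻¹ * X * T * X := by group
        _ = 1 := by rw [e, hX]
    intro r hr
    simp only [relA, List.mem_cons, List.not_mem_nil, or_false] at hr
    rcases hr with rfl | rfl | rfl | rfl | rfl | rfl | rfl | rfl | rfl | rfl | rfl | rfl | rfl |
      rfl | rfl | rfl | rfl | rfl | rfl | rfl | rfl | rfl | rfl | rfl | rfl | rfl | rfl <;>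
      simp only [prodw_cons, prodw_nil, mul_one, ThCert.val, ext1]
    · exact hA
    · exact hB
    · exact hC
    · exact hD
    · exact hE
    · exact cube_braid hA hB hAB
    · exact two hA hE hAS.2.eq
    · exact cube_braid hB hC hBC
    · exact two hB hD hBD'
    · exact two hB hE hBS.2.eq
    · have e : A⁻¹ = (D * C) ^ 4 := by
        rw [hA4, ← inv_pow, mul_inv_rev, hDi, hCi]
      calc A * (D * (C * (D * (C * (D * (C * (D * C))))))) = A * (D * C) ^ 4 := by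
            simp only [pow_succ, pow_zero, one_mul, mul_assoc]
        _ = 1 := by rw [← e, mul_inv_cancel]
    · exact two hC hE hCS.2.eq
    · exact cube_braid hD hE hDE
    · simpa [hWd, pow_succ, mul_assoc] using hψ
    · simpa [pow_succ, mul_assoc] using hS7
    · exact com hA hAS.1.eq
    · exact com hB hBS.1.eq
    · exact com hC hCS.1.eq
    · calc S * (D * (S * D)) = S * (D * S * D) := by group
        _ = 1 := by rw [hDS, mul_inv_cancel]
    · have h := hES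
      rw [hEi] at h
      calc E * (S⁻¹ * (E * (S * (S⁻¹ * (S⁻¹ * (S⁻¹ * (E * (S * (S * S)))))))))
          = E * S⁻¹ * E * S * ((S ^ 3)⁻¹ * E * S ^ 3) := by
            simp only [pow_succ, pow_zero, one_mul, mul_inv_rev, mul_assoc]
        _ = 1 := by rw [h, ← cj_mul, hE, mul_one, inv_mul_cancel]
    · simpa [pow_succ, mul_assoc] using hTo
    · exact tcom hA t1
    · exact tcom hB t2
    · exact tcom hC t3
    · exact tcom hD t4
    · exact tcom hE t5
    · calc T⁻¹ * (S * (T * (S⁻¹ * S⁻¹))) = T⁻¹ * S * T * (S ^ 2)⁻¹ := by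
            simp only [pow_succ, pow_zero, one_mul, mul_inv_rev, mul_assoc]
        _ = 1 := by rw [t6, mul_inv_cancel]
  · intro U hU
    obtain ⟨k, hkc, -, hk⟩ := ker U (L 9) (by rw [hU, hL])
    show U⁻¹ * T * U = T⁻¹
    rw [hk, zinv hkc, ← hTU]
    calc (L 9)⁻¹ * k⁻¹ * T * (L 9 * k) = (L 9)⁻¹ * (k⁻¹ * T) * L 9 * k := by
          simp only [mul_assoc]
      _ = (L 9)⁻¹ * T * (k⁻¹ * L 9) * k := by
          rw [zc (inv_mem hkc) T]; simp only [mul_assoc]
      _ = (L 9)⁻¹ * T * L 9 := by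
          rw [zc (inv_mem hkc) (L 9)]; simp only [mul_assoc, inv_mul_cancel, mul_one]

end

end CfsgLib.ThMult
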