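import Mathlib.GroupTheory.Subgroup.Center
import Mathlib.Tactic.Group

/-!
Identities in a group with central elements, used to normalise lifts of the generators of the
Thompson group to a central extension.
-/

set_option autoImplicit false

namespace CfsgLib.ThMult

open Subgroup (center)

variable {K : Type*} [Group K]

theorem zc {z : K} (hz : z ∈ center K) (x : K) : z * x = x * z :=
  (Subgroup.mem_center_iff.mp hz x).symm

theorem zc' {z : K} (hz : z ∈ center K) (x y : K) : z * (x * y) = x * (z * y) := by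
  rw [← mul_assoc, zc hz, mul_assoc]

theorem zmul_pow {z : K} (hz : z ∈ center K) (x : K) (n : ℕ) : (x * z) ^ n = x ^ n * z ^ n :=
  (Commute.mul_pow (show Commute x z from (zc hz x).symm) n)

theorem zinv {z : K} (hz : z ∈ center K) (x : K) : (x * z)⁻¹ = x⁻¹ * z⁻¹ := by
  rw [mul_inv_rev, zc (inv_mem hz)]

/-- Conjugation by `g`, as used in the relators. -/
theorem cj_pow (g x : K) (n : ℕ) : (g⁻¹ * x * g) ^ n = g⁻¹ * x ^ n * g := by
  simpa using (conj_pow (i := n) (a := g⁻¹) (b := x))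

theorem cj_mul (g x y : K) : g⁻¹ * (x * y) * g = (g⁻¹ * x * g) * (g⁻¹ * y * g) := by group

theorem cj_central {z : K} (hz : z ∈ center K) (g x : K) :
    g⁻¹ * (x * z) * g = g⁻¹ * x * g * z := by
  simp only [mul_assoc, zc hz g]

theorem cj_fix {g x : K} (h : g * x = x * g) : g⁻¹ * x * g = x := by
  rw [mul_assoc, ← h, inv_mul_cancel_left]

theorem eq_mul_self {x z : K} (h : x = x * z) : z = 1 := left_eq_mul.mp h

/-! ### The element of order seven -/

theorem s_norm {T S₀ z : K} (hz : z ∈ center K) (h : T⁻¹ * S₀ * T = S₀ ^ 2 * z) :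
    T⁻¹ * (S₀ * z) * T = (S₀ * z) ^ 2 := by
  rw [cj_central hz, h, zmul_pow hz, pow_two z, mul_assoc]

theorem s_seven {T S : K} (hT : T ^ 3 ∈ center K) (h : T⁻¹ * S * T = S ^ 2) : S ^ 7 = 1 := by
  have e2 : (T ^ 2)⁻¹ * S * T ^ 2 = S ^ 4 := by
    rw [show (T ^ 2)⁻¹ * S * T ^ 2 = T⁻¹ * (T⁻¹ * S * T) * T by
        simp only [pow_succ, pow_zero, one_mul, mul_inv_rev, mul_assoc], h, ← cj_pow, h, ← pow_mul]
  have e3 : (T ^ 3)⁻¹ * S * T ^ 3 = S ^ 8 := by
    rw [show (T ^ 3)⁻¹ * S * T ^ 3 = T⁻¹ * ((T ^ 2)⁻¹ * S * T ^ 2) * T by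
        simp only [pow_succ, pow_zero, one_mul, mul_inv_rev, mul_assoc], e2, ← cj_pow, h,
      ← pow_mul]
  rw [cj_fix (zc hT S), pow_succ'] at e3
  exact left_eq_mul.mp e3

/-- A lift conjugating `S` to `Q` up to a central element does so exactly. -/
theorem conj_S_exact {T S Q X z w : K} (hz : z ∈ center K) (hw : w ∈ center K)
    (hS : T⁻¹ * S * T = S ^ 2) (hQ : T⁻¹ * Q * T = Q ^ 2) (hX : T⁻¹ * X * T = X * w)
    (h : X * S * X⁻¹ = Q * z) : X * S * X⁻¹ = Q := by
  have e1 : (X * S * X⁻¹) ^ 2 = Q ^ 2 * z := by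
    rw [conj_pow, ← hQ, ← hS]
    calc X * (T⁻¹ * S * T) * X⁻¹ = (X * w) * (T⁻¹ * S * T) * (X * w)⁻¹ := by
          rw [mul_assoc X w, zc hw (T⁻¹ * S * T)]; group
      _ = T⁻¹ * (X * S * X⁻¹) * T := by rw [← hX]; group
      _ = T⁻¹ * Q * T * z := by rw [h, cj_central hz]
  rw [h, zmul_pow hz] at e1
  have e2 := mul_left_cancel e1
  rw [pow_two] at e2
  rw [h, mul_eq_left.mp e2, mul_one]

/-- Two commuting lifts of an involution and of an element of order three commute exactly. -/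
theorem comm_two_three {T X z : K} (hz : z ∈ center K) (hX : X ^ 2 ∈ center K)
    (hT : T ^ 3 ∈ center K) (h : T⁻¹ * X * T = X * z) : T⁻¹ * X * T = X := by
  have h2 : z ^ 2 = 1 := by
    have e := cj_pow T X 2
    rw [h, zmul_pow hz, cj_fix (zc hX T).symm] at e
    exact mul_eq_left.mp e
  have h3 : z ^ 3 = 1 := by
    have e : (T ^ 3)⁻¹ * X * T ^ 3 = X * z ^ 3 := by
      rw [show (T ^ 3)⁻¹ * X * T ^ 3 = T⁻¹ * (T⁻¹ * (T⁻¹ * X * T) * T) * T by
          simp only [pow_succ, pow_zero, one_mul, mul_inv_rev, mul_assoc], h,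
        cj_central hz, h, cj_central hz, cj_central hz, h]
      simp only [pow_succ, pow_zero, one_mul, mul_assoc]
    rw [cj_fix (zc hT X)] at e
    exact eq_mul_self e
  have : z = 1 := by
    calc z = z * (z ^ 2) := by rw [h2, mul_one]
      _ = z ^ 3 := by rw [← pow_succ']
      _ = 1 := h3
  rw [h, this, mul_one]

/-! ### The elementary group of order eight -/

/-- The conjugates of `E` by the powers of `S`. -/
def xs (E S : K) (i : ℕ) : K := (S ^ i)⁻¹ * E * S ^ i

theorem xs_zero (E S : K) : xs E S 0 = E := by simp [xs]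

theorem xs_S (E S : K) (i : ℕ) : S⁻¹ * xs E S i * S = xs E S (i + 1) := by
  simp only [xs, pow_succ, mul_inv_rev, mul_assoc]

section Eight

variable {E S : K}

theorem xs_seven (hS : S ^ 7 = 1) (i : ℕ) : xs E S (i + 7) = xs E S i := by
  simp only [xs, pow_add, hS, mul_one]

theorem xs_rec (h : E⁻¹ * S⁻¹ * E * S = (S ^ 3)⁻¹ * E * S ^ 3) (i : ℕ) :
    xs E S (i + 1) = xs E S i * xs E S (i + 3) := by
  have e : S⁻¹ * E * S = E * ((S ^ 3)⁻¹ * E * S ^ 3) := by rw [← h]; group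
  calc xs E S (i + 1) = (S ^ i)⁻¹ * (S⁻¹ * E * S) * S ^ i := by
        simp only [xs, pow_succ', mul_inv_rev, mul_assoc]
    _ = xs E S i * xs E S (i + 3) := by
        rw [e, cj_mul]
        simp only [xs, add_comm i 3, pow_add, mul_inv_rev, mul_assoc]

theorem xs_sq {q : K} (hq : q ∈ center K) (h : E * E = q) (i : ℕ) :
    xs E S i * xs E S i = q := by
  rw [xs, ← cj_mul, h, cj_fix (zc hq _).symm]

/-- The lift of an element of the elementary group of order eight is an involution. -/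
theorem e_sq_one {q : K} (hq : q ∈ center K) (hS : S ^ 7 = 1)
    (h : E⁻¹ * S⁻¹ * E * S = (S ^ 3)⁻¹ * E * S ^ 3) (h2 : E * E = q) : q = 1 := by
  have sq := xs_sq (S := S) hq h2
  have rec' := xs_rec h
  have pair : ∀ i, xs E S (i + 3) * xs E S i * q = xs E S i * xs E S (i + 3) := by
    intro i
    have hab : xs E S i * xs E S (i + 3) * (xs E S i * xs E S (i + 3)) = q := by
      rw [← rec' i]; exact sq _
    generalize xs E S i = a, xs E S (i + 3) = b, sq i = ha, sq (i + 3) = hb at hab ⊢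
    have e : b * (a * b) = a := by
      rw [mul_assoc] at hab
      exact mul_left_cancel (hab.trans ha.symm)
    calc b * a * q = b * a * (b * b) := by rw [hb]
      _ = b * (a * b) * b := by group
      _ = a * b := by rw [e]
  have x7 : xs E S 7 = xs E S 0 := xs_seven hS 0
  have x9 : xs E S 9 = xs E S 2 := xs_seven hS 2
  have p6 := pair 6
  have p4 := pair 4
  have p0 := pair 0
  have r6 := rec' 6
  simp only [Nat.reduceAdd, x7, x9] at p6 p4 p0 r6
  have e1 : xs E S 0 * xs E S 2 = xs E S 6 * q := by rw [r6, mul_assoc, sq]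
  have e2 : xs E S 2 * xs E S 0 = xs E S 6 := by
    refine mul_right_cancel (b := q) ?_
    calc xs E S 2 * xs E S 0 * q = xs E S 2 * xs E S 6 * q * xs E S 2 := by
          rw [r6]; simp only [mul_assoc, zc hq]
      _ = xs E S 6 * q := by rw [p6, mul_assoc, sq]
  have e3 : xs E S 2 * xs E S 0 = xs E S 0 * xs E S 2 := by
    have r1 := rec' 1
    have r0 := rec' 0
    simp only [Nat.reduceAdd] at r1 r0
    rw [r1, r0]
    calc xs E S 0 * xs E S 3 * xs E S 4 * xs E S 0
        = xs E S 0 * xs E S 3 * (xs E S 0 * xs E S 4 * q) := by rw [p4, mul_assoc _ (xs E S 4)]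
      _ = xs E S 0 * (xs E S 3 * xs E S 0 * q) * xs E S 4 := by simp only [mul_assoc, zc hq]
      _ = xs E S 0 * (xs E S 0 * xs E S 3 * xs E S 4) := by rw [p0]; simp only [mul_assoc]
  rw [e1, e2] at e3
  exact eq_mul_self e3

variable (hS : S ^ 7 = 1) (h : E⁻¹ * S⁻¹ * E * S = (S ^ 3)⁻¹ * E * S ^ 3) (h2 : E * E = 1)
include hS h h2

theorem xs_one (i : ℕ) : xs E S i * xs E S i = 1 := xs_sq (Subgroup.one_mem _) h2 i

theorem xs_comm (i : ℕ) : xs E S (i + 3) * xs E S i = xs E S i * xs E S (i + 3) := by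
  have hab : xs E S i * xs E S (i + 3) * (xs E S i * xs E S (i + 3)) = 1 := by
    rw [← xs_rec h i]; exact xs_one hS h h2 _
  generalize xs E S i = a, xs E S (i + 3) = b, xs_one hS h h2 i = ha,
    xs_one hS h h2 (i + 3) = hb at hab ⊢
  have := inv_eq_of_mul_eq_one_right hab
  rwa [mul_inv_rev, inv_eq_of_mul_eq_one_right ha, inv_eq_of_mul_eq_one_right hb] at this

theorem xs_two_zero : xs E S 0 * xs E S 2 = xs E S 6 ∧ xs E S 2 * xs E S 0 = xs E S 6 := by
  have r6 := xs_rec h 6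
  have c6 := xs_comm hS h h2 6
  have x7 : xs E S 7 = xs E S 0 := xs_seven hS 0
  have x9 : xs E S 9 = xs E S 2 := xs_seven hS 2
  simp only [Nat.reduceAdd, x7, x9] at r6 c6
  refine ⟨?_, ?_⟩
  · rw [r6, mul_assoc, xs_one hS h h2, mul_one]
  · rw [r6, ← c6, ← mul_assoc, xs_one hS h h2, one_mul]

/-- An element normalising `S` by `S ↦ S²` fixes the lift of order two. -/
theorem t_comm_e {T w : K} (hw : w ∈ center K) (hT : T⁻¹ * S * T = S ^ 2)
    (hE : T⁻¹ * E * T = E * w) : T⁻¹ * E * T = E := by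
  have e1 : T⁻¹ * (E⁻¹ * S⁻¹ * E * S) * T =
      (T⁻¹ * E * T)⁻¹ * (T⁻¹ * S * T)⁻¹ * (T⁻¹ * E * T) * (T⁻¹ * S * T) := by group
  have e2 : T⁻¹ * ((S ^ 3)⁻¹ * E * S ^ 3) * T =
      ((T⁻¹ * S * T) ^ 3)⁻¹ * (T⁻¹ * E * T) * (T⁻¹ * S * T) ^ 3 := by rw [cj_pow]; group
  rw [h, e2, hT, hE, ← pow_mul] at e1
  have l : (S ^ (2 * 3))⁻¹ * (E * w) * S ^ (2 * 3) = xs E S 6 * w := by
    rw [cj_central hw]; rfl
  have r : (E * w)⁻¹ * (S ^ 2)⁻¹ * (E * w) * S ^ 2 = xs E S 0 * xs E S 2 := by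
    have comm := zc hw
    rw [xs_zero, xs, zinv hw, inv_eq_of_mul_eq_one_right h2]
    calc E * w⁻¹ * (S ^ 2)⁻¹ * (E * w) * S ^ 2
        = E * (w⁻¹ * (S ^ 2)⁻¹) * E * (w * S ^ 2) := by simp only [mul_assoc]
      _ = E * (S ^ 2)⁻¹ * (w⁻¹ * E) * (S ^ 2 * w) := by
          rw [zc (inv_mem hw) ((S ^ 2)⁻¹), comm (S ^ 2)]; simp only [mul_assoc]
      _ = E * (S ^ 2)⁻¹ * E * S ^ 2 * (w⁻¹ * w) := by
          rw [zc (inv_mem hw) E]; simp only [mul_assoc, zc' (inv_mem hw)]
      _ = E * ((S ^ 2)⁻¹ * E * S ^ 2) := by rw [inv_mul_cancel, mul_one]; simp only [mul_assoc]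
  rw [l, r, (xs_two_zero hS h h2).1] at e1
  rw [hE, eq_mul_self e1.symm, mul_one]

/-- A lift commuting with `S` commutes exactly with the elementary group. -/
theorem comm_e {X z : K} (hz : z ∈ center K) (hX : X * S * X⁻¹ = S)
    (hE : X * E * X⁻¹ = E * z) : X * E * X⁻¹ = E := by
  have key : ∀ i, X * xs E S i * X⁻¹ = xs E S i * z := by
    intro i
    have e : X * xs E S i * X⁻¹ = ((X * S * X⁻¹) ^ i)⁻¹ * (X * E * X⁻¹) * (X * S * X⁻¹) ^ i := by
      rw [conj_pow, xs]; group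
    rw [e, hX, hE, cj_central hz]; rfl
  have e : X * xs E S 1 * X⁻¹ = (X * xs E S 0 * X⁻¹) * (X * xs E S 3 * X⁻¹) := by
    rw [xs_rec h 0]; group
  rw [key, key, key, xs_rec h 0] at e
  have e' : xs E S 0 * xs E S 3 * z = xs E S 0 * xs E S 3 * (z * z) := by
    rw [e]; simp only [mul_assoc, zc' hz]
  rw [hE, mul_eq_left.mp (mul_left_cancel e').symm, mul_one]

end Eight

/-! ### The braid generators -/

theorem braid_conj {D E : K} (h : D * E * D = E * D * E) : E * D * E * (E * D)⁻¹ = D := by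
  rw [← h, mul_inv_rev]; group

/-- A lift commuting with `E` commutes with the braid partner `D`. -/
theorem comm_braid {B D E z : K} (hz : z ∈ center K) (h : D * E * D = E * D * E)
    (hBE : B * E = E * B) (hBD : B * D = D * B * z) : B * D = D * B := by
  have h1 : D * B * D⁻¹ = B * z⁻¹ := by
    rw [eq_mul_inv_iff_mul_eq, mul_assoc, mul_assoc, ← zc hz, ← mul_assoc, ← mul_assoc, ← hBD]
    group
  have h2 : E * D * B * (E * D)⁻¹ = B * z⁻¹ := by
    rw [mul_inv_rev, show E * D * B * (D⁻¹ * E⁻¹) = E * (D * B * D⁻¹) * E⁻¹ by group, h1,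
      ← mul_assoc E, ← hBE, mul_assoc, mul_assoc, ← mul_assoc E, ← zc (inv_mem hz) E]
    group
  have h3 : B * z⁻¹ * D = D * (B * z⁻¹) := by
    calc B * z⁻¹ * D = E * D * B * (E * D)⁻¹ * (E * D * E * (E * D)⁻¹) := by
          rw [h2, braid_conj h]
      _ = E * D * (B * E) * (E * D)⁻¹ := by group
      _ = E * D * E * (E * D)⁻¹ * (E * D * B * (E * D)⁻¹) := by rw [hBE]; group
      _ = D * (B * z⁻¹) := by rw [h2, braid_conj h]
  rw [mul_assoc, zc (inv_mem hz) D, ← mul_assoc, ← mul_assoc] at h3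
  exact mul_right_cancel h3

/-- Scaling making the lifts of `c` and `a = (cd)^4` exact. -/
theorem scale {A C D q z : K} (hq : q ∈ center K) (hz : z ∈ center K) (hC : C * C = q)
    (hA : A * A = q) (hD : D * D = 1) (hAD : A * D = D * A) (h : A = (C * D) ^ 4 * z) :
    C * (z * q) * (C * (z * q)) = 1 ∧ A * (z * q) * (A * (z * q)) = 1 ∧
      A * (z * q) = (C * (z * q) * D) ^ 4 := by
  have hx : z * q ∈ center K := mul_mem hz hq
  have cq : Commute z q := zc hz q
  obtain ⟨M, hM⟩ : ∃ M, M = (C * D) ^ 4 := ⟨_, rfl⟩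
  rw [← hM] at h
  have e1 : D * C = (C * D)⁻¹ * q := by
    rw [eq_inv_mul_iff_mul_eq, show C * D * (D * C) = C * (D * D) * C by group, hD, mul_one, hC]
  have e2 : D * M * D = M := by
    have e := hAD
    rw [h, mul_assoc, zc hz D, ← mul_assoc, ← mul_assoc] at e
    rw [← mul_right_cancel e, mul_assoc, hD, mul_one]
  have hDi := inv_eq_of_mul_eq_one_right hD
  have e3 : M⁻¹ * q ^ 4 = M := by
    rw [hM, ← inv_pow, ← zmul_pow hq, ← e1,
      show D * C = D⁻¹ * (C * D) * D by rw [hDi, mul_assoc, mul_assoc, hD, mul_one], cj_pow, ← hM,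
      hDi, e2]
  have e4 : M * M = q ^ 4 := by
    rw [eq_comm, ← inv_mul_eq_iff_eq_mul]; exact e3
  have e5 : q ^ 3 * z ^ 2 = 1 := by
    have hA' : q = q ^ 4 * z ^ 2 := by
      rw [← e4, ← hA, h, pow_two z, mul_assoc M z, zc' hz M z, ← mul_assoc]
    rw [pow_succ' q 3, mul_assoc] at hA'
    exact eq_mul_self hA'
  have sq : q * (z * q) ^ 2 = 1 := by
    rw [cq.mul_pow, ← mul_assoc, zc hq (z ^ 2), mul_assoc, ← pow_succ' q 2]
    rw [zc (pow_mem hz 2)]
    exact e5
  refine ⟨?_, ?_, ?_⟩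
  · rw [← pow_two, zmul_pow hx, pow_two C, hC, sq]
  · rw [← pow_two, zmul_pow hx, pow_two A, hA, sq]
  · rw [show C * (z * q) * D = C * D * (z * q) by rw [mul_assoc C, zc hx D, ← mul_assoc],
      zmul_pow hx, ← hM, h, mul_assoc M]
    congr 1
    calc z * (z * q) = z * (z * q) * (q ^ 3 * z ^ 2) := by rw [e5, mul_one]
      _ = z ^ 4 * q ^ 4 := by
        rw [zc (pow_mem hq 3) (z ^ 2)]
        simp only [pow_succ, pow_zero, one_mul, mul_assoc, zc' hq z]
      _ = (z * q) ^ 4 := (cq.mul_pow 4).symm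

/-- Scaling making the lift of `t` of order three and inverted by `u`. -/
theorem t_norm {T U q w : K} (hq : q ∈ center K) (hw : w ∈ center K) (hT : T ^ 3 = q)
    (h : U⁻¹ * T * U = T⁻¹ * w) :
    (T * (w * q⁻¹)) ^ 3 = 1 ∧ U⁻¹ * (T * (w * q⁻¹)) * U = (T * (w * q⁻¹))⁻¹ := by
  have hy : w * q⁻¹ ∈ center K := mul_mem hw (inv_mem hq)
  have c : Commute w q := zc hw q
  have e : w ^ 3 = q * q := by
    have e := cj_pow U T 3
    rw [h, zmul_pow hw, hT, cj_fix (zc hq U).symm, inv_pow, hT, inv_mul_eq_iff_eq_mul] at e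
    exact e
  have c3 : (w * q⁻¹) ^ 3 = q⁻¹ := by
    rw [c.inv_right.mul_pow, e, inv_pow]
    group
  refine ⟨?_, ?_⟩
  · rw [zmul_pow hy, hT, c3, mul_inv_cancel]
  · rw [cj_central hy, h, zinv hy, mul_assoc]
    congr 1
    apply eq_inv_of_mul_eq_one_left
    calc w * (w * q⁻¹) * (w * q⁻¹) = w ^ 3 * (q⁻¹ * q⁻¹) := by
          simp only [pow_succ, pow_zero, one_mul, mul_assoc, zc' (inv_mem hq) w]
      _ = 1 := by rw [e]; group

/-! ### The element `u` -/

section U

variable {U S A C E X i j za zc₀ ze μ η : K}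

/-- The commutators of `U` with `A` is exact. -/
theorem u_comm (hz : za ∈ center K) (hj : j ∈ center K) (hA : A * A = 1) (hAC : A * C = C * A)
    (hS : A * S = S * A) (h3 : (U * S) ^ 3 = A * C * j) (hU : U⁻¹ * A * U = A * za) :
    U⁻¹ * A * U = A := by
  have z2 : za ^ 2 = 1 := by
    have e := cj_pow U A 2
    rw [hU, zmul_pow hz, pow_two A, hA] at e
    simpa using e
  have e1 : (U * S)⁻¹ * A * (U * S) = A * za := by
    rw [show (U * S)⁻¹ * A * (U * S) = S⁻¹ * (U⁻¹ * A * U) * S by group, hU, cj_central hz,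
      cj_fix hS.symm]
  have e3 : ((U * S) ^ 3)⁻¹ * A * (U * S) ^ 3 = A * za ^ 3 := by
    rw [show ((U * S) ^ 3)⁻¹ * A * (U * S) ^ 3 = (U * S)⁻¹ * ((U * S)⁻¹ * ((U * S)⁻¹ * A *
        (U * S)) * (U * S)) * (U * S) by
          simp only [pow_succ, pow_zero, one_mul, mul_inv_rev, mul_assoc], e1, cj_central hz, e1, cj_central hz,
      cj_central hz, e1]
    simp only [pow_succ, pow_zero, one_mul, mul_assoc]
  rw [h3, cj_fix (show A * C * j * A = A * (A * C * j) by
    rw [mul_assoc _ j, zc hj A, ← mul_assoc, mul_assoc A C A, ← hAC, ← mul_assoc, ← mul_assoc,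
      ← mul_assoc]), pow_succ, z2, one_mul] at e3
  rw [hU, eq_mul_self e3, mul_one]

variable (hS7 : S ^ 7 = 1) (hES : E⁻¹ * S⁻¹ * E * S = (S ^ 3)⁻¹ * E * S ^ 3) (hE : E * E = 1)
  (hAS : A * S = S * A) (hCS : C * S = S * C) (hAE : A * E = E * A) (hCE : C * E = E * C)
  (hXS : X * S = S * X) (hXE : X * E = E * X) (hX : X * X = 1) (hACX : A * C * X = X * (A * C))
  (hi : i ∈ center K) (hj : j ∈ center K) (hU2 : U * U = A * C * i)
  (hU3 : (U * S) ^ 3 = A * C * j)
  (hze : ze ∈ center K) (hμ : μ ∈ center K) (hη : η ∈ center K)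
  (hUE : U⁻¹ * E * U = E * ze) (hUX : U⁻¹ * X * U = E * X * μ)
  (hU5 : U⁻¹ * xs E S 5 * U = xs E S 5 * η)

include hS7 hES hE hAS hCS hAE hCE hXS hXE hX hACX hi hj hU2 hU3 hze hμ hη hUE hUX hU5

/-- The relations of `U` with `E`, `X` and the elementary group are exact. -/
theorem u_exact :
    U⁻¹ * E * U = E ∧ U⁻¹ * X * U = E * X ∧ U⁻¹ * xs E S 5 * U = xs E S 5 := by
  have one := xs_one hS7 hES hE
  have comm := xs_comm hS7 hES hE
  have r := xs_rec hES
  have fixA : ∀ (k : K), k ∈ center K → ∀ Y, A * C * Y = Y * (A * C) →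
      (A * C * k)⁻¹ * Y * (A * C * k) = Y := by
    intro k hk Y hY
    refine cj_fix ?_
    rw [mul_assoc _ k, zc hk Y, ← mul_assoc, hY, mul_assoc]
  have hACx : ∀ n, A * C * xs E S n = xs E S n * (A * C) := by
    intro n
    have a1 : Commute A (xs E S n) :=
      ((Commute.pow_right hAS n).inv_right.mul_right hAE).mul_right (Commute.pow_right hAS n)
    have c1 : Commute C (xs E S n) :=
      ((Commute.pow_right hCS n).inv_right.mul_right hCE).mul_right (Commute.pow_right hCS n)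
    exact a1.mul_left c1
  have sqμ : μ ^ 2 = 1 := by
    have e := cj_pow U X 2
    rw [hUX, zmul_pow hμ, (Commute.mul_pow hXE.symm 2), pow_two X, hX, pow_two E, hE] at e
    simpa using e
  have e2 : (U * U)⁻¹ * X * (U * U) = X := by rw [hU2]; exact fixA i hi X hACX
  rw [show (U * U)⁻¹ * X * (U * U) = U⁻¹ * (U⁻¹ * X * U) * U by group, hUX, cj_central hμ,
    cj_mul, hUE, hUX] at e2
  have zeone : ze = 1 := by
    have e : X * (ze * μ ^ 2) = X := by
      calc X * (ze * μ ^ 2) = E * E * X * (ze * μ ^ 2) := by rw [hE, one_mul]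
        _ = E * ze * (E * X * μ) * μ := by simp only [pow_two, mul_assoc, zc' hze]
        _ = X := e2
    rw [sqμ, mul_one] at e
    exact mul_eq_left.mp e
  rw [zeone, mul_one] at hUE
  have sqη : η ^ 2 = 1 := by
    have e := cj_pow U (xs E S 5) 2
    rw [hU5, zmul_pow hη, pow_two (xs E S 5), one] at e
    simpa using e
  have sqη' : η * η = 1 := by rw [← pow_two]; exact sqη
  have x7 : xs E S 7 = xs E S 0 := xs_seven hS7 0
  have x8 : xs E S 8 = xs E S 1 := xs_seven hS7 1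
  have r4 := r 4
  have r5 := r 5
  have r2 := r 2
  have r1 := r 1
  have c2 := comm 2
  simp only [Nat.reduceAdd, x7, x8] at r4 r5 r2 r1 c2
  have d4 : xs E S 4 = xs E S 5 * xs E S 0 := by rw [r4, mul_assoc, one, mul_one]
  have d1 : xs E S 1 = xs E S 5 * xs E S 6 := by rw [r5, ← mul_assoc, one, one_mul]
  have d2 : xs E S 5 * xs E S 3 = xs E S 2 := by
    rw [r2, ← mul_assoc, c2, mul_assoc, one, mul_one]
  have d24 : xs E S 2 * xs E S 4 = xs E S 1 := by rw [r1, mul_assoc, one, mul_one]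
  have u0 : U⁻¹ * xs E S 0 * U = xs E S 0 := by rw [xs_zero, hUE]
  have u4 : U⁻¹ * xs E S 4 * U = xs E S 4 * η := by
    rw [d4, cj_mul, hU5, u0, mul_assoc, zc hη, ← mul_assoc]
  have step : ∀ Y, (U * S)⁻¹ * Y * (U * S) = S⁻¹ * (U⁻¹ * Y * U) * S := fun Y => by group
  have s4 : (U * S)⁻¹ * xs E S 4 * (U * S) = xs E S 5 * η := by
    rw [step, u4, cj_central hη, xs_S]
  have s5 : (U * S)⁻¹ * xs E S 5 * (U * S) = xs E S 6 * η := by
    rw [step, hU5, cj_central hη, xs_S]
  have three : ∀ Y, A * C * Y = Y * (A * C) → (U * S)⁻¹ * ((U * S)⁻¹ * ((U * S)⁻¹ * Y *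
      (U * S)) * (U * S)) * (U * S) = Y := by
    intro Y hY
    rw [show (U * S)⁻¹ * ((U * S)⁻¹ * ((U * S)⁻¹ * Y * (U * S)) * (U * S)) * (U * S) =
      ((U * S) ^ 3)⁻¹ * Y * (U * S) ^ 3 by
        simp only [pow_succ, pow_zero, one_mul, mul_inv_rev, mul_assoc], hU3]
    exact fixA j hj Y hY
  have s6 := three _ (hACx 4)
  rw [s4, cj_central hη, s5, mul_assoc (xs E S 6), sqη', mul_one, step] at s6
  have u6 : U⁻¹ * xs E S 6 * U = xs E S 3 := by
    have e : S⁻¹ * (U⁻¹ * xs E S 6 * U) * S = S⁻¹ * xs E S 3 * S := by rw [s6, xs_S]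
    exact mul_left_cancel (mul_right_cancel e)
  have u1 : U⁻¹ * xs E S 1 * U = xs E S 2 * η := by
    rw [d1, cj_mul, hU5, u6, mul_assoc, zc hη, ← mul_assoc, d2]
  have u2 : U⁻¹ * xs E S 2 * U = xs E S 1 := by
    rw [r1, cj_mul, u1, u4]
    calc xs E S 2 * η * (xs E S 4 * η) = xs E S 2 * xs E S 4 * (η * η) := by
          simp only [mul_assoc, zc' hη]
      _ = xs E S 1 := by rw [d24, sqη', mul_one]
  have η1 : η = 1 := by
    have e : (U * U)⁻¹ * xs E S 1 * (U * U) = xs E S 1 := by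
      rw [hU2]; exact fixA i hi _ (hACx 1)
    rw [show (U * U)⁻¹ * xs E S 1 * (U * U) = U⁻¹ * (U⁻¹ * xs E S 1 * U) * U by group, u1,
      cj_central hη, u2] at e
    exact mul_eq_left.mp e
  rw [η1, mul_one] at hU5 u1
  refine ⟨hUE, ?_, hU5⟩
  have d31 : xs E S 3 * xs E S 1 = xs E S 0 := by
    have r0 := r 0
    have c0 := comm 0
    simp only [Nat.reduceAdd] at r0 c0
    rw [r0, ← mul_assoc, c0, mul_assoc, one, mul_one]
  have xS : S⁻¹ * X * S = X := cj_fix hXS.symm
  have sX : (U * S)⁻¹ * X * (U * S) = xs E S 1 * X * μ := by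
    rw [step, hUX, cj_central hμ, cj_mul, xS, ← xs_S E S 0, xs_zero]
  have s1 : (U * S)⁻¹ * xs E S 1 * (U * S) = xs E S 3 := by rw [step, u1, xs_S]
  have s0 : (U * S)⁻¹ * xs E S 0 * (U * S) = xs E S 1 := by rw [step, u0, xs_S]
  have e := three X hACX
  have e2' : (U * S)⁻¹ * (xs E S 1 * X * μ) * (U * S) = xs E S 0 * X := by
    rw [cj_central hμ, cj_mul, s1, sX]
    calc xs E S 3 * (xs E S 1 * X * μ) * μ = xs E S 3 * xs E S 1 * X * μ ^ 2 := by
          simp only [pow_two, mul_assoc]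
      _ = xs E S 0 * X := by rw [sqμ, mul_one, d31]
  rw [sX, e2', cj_mul, s0, sX, ← mul_assoc, ← mul_assoc, one, one_mul] at e
  rw [hUX, mul_eq_left.mp e, mul_one]

end U

/-- The Coxeter element is conjugate to its inverse by an exact identity. -/
theorem coxeter_conj {B C D E : K} (hB : B * B = 1) (hC : C * C = 1) (hD : D * D = 1)
    (hE : E * E = 1) (hBD : B * D = D * B) (hBE : B * E = E * B) (hCE : C * E = E * C) :
    B * C * E * B * (B * C * D * E) * (B * C * E * B)⁻¹ = (B * C * D * E)⁻¹ := by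
  have iB := inv_eq_of_mul_eq_one_right hB
  have iC := inv_eq_of_mul_eq_one_right hC
  have iD := inv_eq_of_mul_eq_one_right hD
  have iE := inv_eq_of_mul_eq_one_right hE
  simp only [mul_inv_rev, iB, iC, iD, iE]
  calc B * C * E * B * (B * C * D * E) * (B * (E * (C * B)))
      = B * C * E * (B * B) * C * D * (E * B) * E * C * B := by group
    _ = B * (E * C) * C * D * (B * E) * E * C * B := by rw [hB, mul_one, ← hBE, ← hCE, mul_assoc B C E]
    _ = B * E * (C * C) * D * B * (E * E) * C * B := by group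
    _ = B * E * (D * B) * C * B := by rw [hC, hE]; group
    _ = B * (E * B) * D * C * B := by rw [← hBD]; group
    _ = B * B * E * D * C * B := by rw [← hBE]; group
    _ = E * (D * (C * B)) := by rw [hB]; group

end CfsgLib.ThMult
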